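import Cfsg.Agent.Lib.Sporadic.Fi23Centralizer.CheckLeaves

/-!
Kernel checks for the characterisation of Fi23 by the centraliser of a transposition.
-/

set_option autoImplicit false
set_option maxRecDepth 100000
set_option maxHeartbeats 0

namespace CfsgLib.Sporadic.Fi23Centralizer

theorem vScan0_ok : vScanK 0 16000 = true := by decide +kernel
theorem vScan1_ok : vScanK 16000 15671 = true := by decide +kernel
theorem pairScan_ok : pairScanK = true := by decide +kernel
theorem count3_ok : Nat.blt (fixCountK [0, 2, 4]) 693 = true := by decide +kernel
theorem count4_ok : Nat.blt (fixCountK [0, 2, 4, 9]) 693 = true := by decide +kernel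
theorem count2_ok : Nat.blt (fixCountK [0, 2]) 700 = true := by decide +kernel

end CfsgLib.Sporadic.Fi23Centralizer
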