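import Cfsg.Agent.Lib.Sporadic.Fi23Centralizer.Defs

/-!
Kernel checks for the characterisation of Fi23 by the centraliser of a transposition.
-/

set_option autoImplicit false
set_option maxRecDepth 100000
set_option maxHeartbeats 0

namespace CfsgLib.Sporadic.Fi23Centralizer

theorem halves_ok : halvesK = true := by decide +kernel
theorem cover_ok : coverK = true := by decide +kernel
theorem vec_ok : vecK = true := by decide +kernel
theorem syl0_ok : sylRows0.all rowK = true := by decide +kernel
theorem vList_ok : vListK = true := by decide +kernel
theorem std_ok : stdK = true := by decide +kernel
theorem link_ok : nodes.all linkK = true := by decide +kernel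
theorem sqPair_ok : squareK sqPair [firstIx, secondIx] = true := by decide +kernel
theorem sqBase_ok : squareK sqPairBase [firstIx, secondIx, baseIx] = true := by decide +kernel
theorem sqTriple_ok : squareK sqTriple [firstIx, secondIx, thirdIx] = true := by decide +kernel

end CfsgLib.Sporadic.Fi23Centralizer
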