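import Cfsg.Agent.Lib.Sporadic.Fi23Centralizer.CheckSyl2

/-!
Kernel checks for the characterisation of Fi23 by the centraliser of a transposition.
-/

set_option autoImplicit false
set_option maxRecDepth 100000
set_option maxHeartbeats 0

namespace CfsgLib.Sporadic.Fi23Centralizer

theorem syl3_ok : sylRows3.all rowK = true := by decide +kernel

end CfsgLib.Sporadic.Fi23Centralizer
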