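import Cfsg.Agent.Lib.Sporadic.Fi23Centralizer.Defs
import Cfsg.Agent.Lib.Sporadic.Fi23Class
import Cfsg.Agent.Lib.Sporadic.Fi23SylowTwo.Points

/-!
Kernel checks for the values of the two words of length seven.
-/

set_option autoImplicit false
set_option maxRecDepth 100000
set_option maxHeartbeats 0

namespace CfsgLib.Sporadic.Fi23Centralizer

open CosetCert

/-- The word of the first diagram. -/
def diagA : List ℕ := (List.replicate 9 [9, 8, 6, 5, 4, 3, 2]).flatten

/-- The word of the diagram with the spare node. -/
noncomputable def diagF : List ℕ :=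
  (List.replicate 9 ([[9], [8], [0], [1], [2], [3], hw spareIx]).flatten).flatten

/-- The word separating the two lifts of the symmetry. -/
def diagSym : List ℕ := (List.replicate 9 [8, 1, 2, 3, 4, 5, 6]).flatten

theorem diagA_ok : Fi23P.Two.sameK diagA Fi23P.trWord = true := by decide +kernel
theorem diagF_ok : Fi23P.Two.sameK diagF [] = true := by decide +kernel
theorem diagSym_ne : Fi23P.Two.sameK diagSym [] = false := by decide +kernel
theorem spare_ok : (Nat.blt spareIx halves.length &&
    [0, 1, 2, 5, 8, 9].all (fun x => Nat.beq (Fi23Data.table.img x (hp spareIx)) (hp spareIx)) &&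
    !(Nat.beq (Fi23Data.table.img 3 (hp spareIx)) (hp spareIx)) &&
    Nat.beq (Fi23Data.forestH.cls (hp spareIx)) 1) = true := by decide +kernel

end CfsgLib.Sporadic.Fi23Centralizer
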