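import Mathlib

/-!
# A subgroup containing the centralisers of a class of involutions is the whole group

An elementary form of strong embedding. If `y` and `u` are involutions then a conjugate `u'` of `u`
under the rotations has `y * u'` of 2-power order and fixed by the conjugating element, and an
element of 2-power order inverted by a member of the class lies in the subgroup. With this the
centralisers of the products of two and of three commuting members are trapped in the subgroup.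
-/

set_option autoImplicit false

namespace CfsgLib.Sporadic.Fi23Centralizer.Embedded

variable {G : Type*} [Group G]

theorem exists_two_power [Finite G] {y u : G} (hy : y * y = 1) (hu : u * u = 1) :
    ∃ k ∈ Subgroup.closure ({y, u} : Set G), ∃ n : ℕ,
      (y * (k * u * k⁻¹)) ^ 2 ^ n = 1 ∧ Commute k (y * (k * u * k⁻¹)) := by
  obtain ⟨n, m, ⟨j, rfl⟩, hm⟩ := Nat.exists_eq_two_pow_mul_odd (n := orderOf (y * u))
    (orderOf_pos (y * u)).ne'
  set ρ := y * u with hρ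
  have hy' : y⁻¹ = y := inv_eq_of_mul_eq_one_right hy
  have hu' : u⁻¹ = u := inv_eq_of_mul_eq_one_right hu
  have hyc : ∀ i : ℤ, y * ρ ^ i = ρ ^ (-i) * y := by
    intro i
    have h1 : y * ρ * y⁻¹ = ρ⁻¹ := by rw [hρ, mul_inv_rev, hy', hu', ← mul_assoc, hy, one_mul]
    rw [← mul_inv_eq_iff_eq_mul, ← conj_zpow, h1, inv_zpow, zpow_neg]
  have huc : ∀ i : ℤ, u * ρ ^ i = ρ ^ (-i) * u := by
    intro i
    have h1 : u * ρ * u⁻¹ = ρ⁻¹ := by
      rw [hρ, mul_inv_rev, hy', hu', mul_assoc, mul_assoc, hu, mul_one]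
    rw [← mul_inv_eq_iff_eq_mul, ← conj_zpow, h1, inv_zpow, zpow_neg]
  have hk : ρ ^ ((j : ℤ) + 1) ∈ Subgroup.closure ({y, u} : Set G) :=
    zpow_mem (mul_mem (Subgroup.subset_closure (by simp)) (Subgroup.subset_closure (by simp))) _
  have hr : y * (ρ ^ ((j : ℤ) + 1) * u * (ρ ^ ((j : ℤ) + 1))⁻¹) = (ρ ^ (2 * j + 1))⁻¹ := by
    rw [← zpow_neg, mul_assoc, huc, neg_neg, ← mul_assoc (ρ ^ ((j : ℤ) + 1)), ← zpow_add, ← mul_assoc,
      hyc, mul_assoc, show y * u = ρ from rfl, ← zpow_add_one, ← zpow_natCast, ← zpow_neg]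
    congr 1
    push_cast
    ring
  refine ⟨_, hk, n, ?_, ?_⟩
  · rw [hr, inv_pow, ← pow_mul, mul_comm, ← hm, pow_orderOf_eq_one, inv_one]
  · rw [hr]
    exact ((Commute.refl ρ).zpow_left _).pow_right _ |>.inv_right

variable {X : Type*} [Group X]

/-- A product of two commuting members. -/
def IsPair (P : Set X) (x : X) : Prop :=
  ∃ a ∈ P, ∃ b ∈ P, a ≠ b ∧ Commute a b ∧ a * b = x

/-- The group `X` embedded in `G`, its class `P` being the trace of the class of `d`. -/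
structure Setting (ψ : X →* G) (P : Set X) (d : G) : Prop where
  inj : Function.Injective ψ
  cen : ∀ g : G, g * d = d * g → g ∈ ψ.range
  base : ∃ t ∈ P, ψ t = d
  conj : ∀ p ∈ P, ∀ g : X, g * p * g⁻¹ ∈ P
  trans : ∀ p ∈ P, ∀ q ∈ P, ∃ m : X, m * p * m⁻¹ = q
  trace : ∀ x : X, IsConj d (ψ x) → x ∈ P
  sq : ∀ p ∈ P, p * p = 1
  three : ∀ p ∈ P, ∀ q ∈ P, Commute p q ∨ (p * q) ^ 3 = 1

/-- The facts on the involutions of `X`. -/
structure Facts (P : Set X) : Prop where
  cases : ∀ x : X, x * x = 1 → x ≠ 1 → x ∈ P ∨ IsPair P x ∨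
    ((∃ a ∈ P, Commute a x ∧ IsPair P (a * x)) ∧
      ∃ y ∈ P, Commute y x ∧ ¬ IsPair P (y * x) ∧ y * x ∉ P)
  member : ∀ x : X, x * x = 1 → x ≠ 1 → ∃ p ∈ P, Commute p x
  exists_pair : ∃ x, IsPair P x
  pair_not_mem : ∀ x, IsPair P x → x ∉ P
  pair_factor : ∀ a ∈ P, ∀ b ∈ P, a ≠ b → Commute a b →
    ∀ x ∈ P, Commute x (a * b) → x * (a * b) ∈ P → x = a ∨ x = b
  pair_closure : ∀ a ∈ P, ∀ b ∈ P, a ≠ b → Commute a b →
    a ∈ Subgroup.closure {w | ∃ y ∈ P, Commute y a ∧ Commute y b ∧ y * a = w}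

namespace Setting

theorem commute_of_closure {S : Set G} {k z : G} (hS : ∀ s ∈ S, Commute s z)
    (hk : k ∈ Subgroup.closure S) : Commute k z := by
  induction hk using Subgroup.closure_induction with
  | mem s hs => exact hS s hs
  | one => exact Commute.one_left _
  | mul _ _ _ _ e1 e2 => exact e1.mul_left e2
  | inv _ _ e1 => exact e1.inv_left

variable {ψ : X →* G} {P : Set X} {d : G} (h : Setting ψ P d)

include h

theorem isConj_mem {p : X} (hp : p ∈ P) : IsConj d (ψ p) := by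
  obtain ⟨t, ht, rfl⟩ := h.base
  obtain ⟨m, rfl⟩ := h.trans t ht p hp
  exact isConj_iff.2 ⟨ψ m, by simp⟩

theorem mem_of_conj {p : X} (hp : p ∈ P) {g : G} (hg : g * ψ p * g⁻¹ ∈ ψ.range) : g ∈ ψ.range := by
  obtain ⟨q, hq⟩ := hg
  have hqP : q ∈ P := h.trace q ((h.isConj_mem hp).trans (isConj_iff.2 ⟨g, hq.symm⟩))
  obtain ⟨t, ht, htd⟩ := h.base
  obtain ⟨m, hm⟩ := h.trans t ht p hp
  obtain ⟨n, hn⟩ := h.trans t ht q hqP
  have hc : (ψ n)⁻¹ * g * ψ m ∈ ψ.range := by
    refine h.cen _ ?_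
    rw [← htd]
    have e : g * (ψ m * ψ t * (ψ m)⁻¹) * g⁻¹ = ψ n * ψ t * (ψ n)⁻¹ := by
      rw [← map_inv, ← map_inv, ← map_mul, ← map_mul, ← map_mul, ← map_mul, hm, hn, hq]
    calc (ψ n)⁻¹ * g * ψ m * ψ t
        = (ψ n)⁻¹ * (g * (ψ m * ψ t * (ψ m)⁻¹) * g⁻¹) * g * ψ m := by group
      _ = _ := by rw [e]; group
  have := mul_mem (mul_mem (⟨n, rfl⟩ : ψ n ∈ ψ.range) hc) (inv_mem (⟨m, rfl⟩ : ψ m ∈ ψ.range))
  simpa [mul_assoc] using this

theorem mem_of_inverted {p : X} (hp : p ∈ P) : ∀ (n : ℕ) (r : G),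
    ψ p * r * ψ p = r⁻¹ → r ^ 2 ^ n = 1 → r ∈ ψ.range := by
  intro n
  induction n with
  | zero => intro r _ hr; simp at hr; rw [hr]; exact one_mem _
  | succ n ih =>
    intro r hinv hr
    have hp2 : ψ p * ψ p = 1 := by rw [← map_mul, h.sq p hp, map_one]
    have hr2 : r * r ∈ ψ.range := by
      refine ih _ ?_ ?_
      · calc ψ p * (r * r) * ψ p = (ψ p * r * ψ p) * (ψ p * r * ψ p) := by
              simp only [mul_assoc]; rw [← mul_assoc (ψ p) (ψ p), hp2, one_mul]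
          _ = _ := by rw [hinv]; group
      · rw [← pow_two, ← pow_mul, ← pow_succ']; exact hr
    refine h.mem_of_conj hp ?_
    have e : ψ p * r⁻¹ = r * ψ p := by
      rw [← hinv, ← mul_assoc, ← mul_assoc, hp2, one_mul]
    rw [mul_assoc, e, ← mul_assoc]
    exact mul_mem hr2 ⟨p, rfl⟩

theorem twist [Finite G] {p : X} (hp : p ∈ P) {u : G} (hu : u * u = 1) :
    ∃ k ∈ Subgroup.closure ({ψ p, u} : Set G), ∃ n : ℕ, k * u * k⁻¹ ∈ ψ.range ∧
      (ψ p * (k * u * k⁻¹)) ^ 2 ^ n = 1 ∧ Commute k (ψ p * (k * u * k⁻¹)) := by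
  have hp2 : ψ p * ψ p = 1 := by rw [← map_mul, h.sq p hp, map_one]
  obtain ⟨k, hk, n, hn, hc⟩ := exists_two_power hp2 hu
  have hu2 : k * u * k⁻¹ * (k * u * k⁻¹) = 1 := by
    calc k * u * k⁻¹ * (k * u * k⁻¹) = k * (u * u) * k⁻¹ := by group
      _ = 1 := by rw [hu]; group
  have hr : ψ p * (k * u * k⁻¹) ∈ ψ.range := by
    refine h.mem_of_inverted hp n _ ?_ hn
    rw [mul_inv_rev, inv_eq_of_mul_eq_one_right hu2, inv_eq_of_mul_eq_one_right hp2, ← mul_assoc,
      hp2, one_mul]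
  have := mul_mem (⟨p, rfl⟩ : ψ p ∈ ψ.range) hr
  rw [← mul_assoc, hp2, one_mul] at this
  exact ⟨k, hk, n, this, hn, hc⟩

variable (F : Facts P)

include F

theorem pair_centralizer [Finite G] {a b : X} (ha : a ∈ P) (hb : b ∈ P) (hne : a ≠ b) (hab : Commute a b)
    {g : G} (hg : Commute g (ψ (a * b))) : g ∈ ψ.range := by
  set z := ψ (a * b) with hz
  have hzc : g⁻¹ * z * g = z := by rw [mul_assoc, ← hg.eq, inv_mul_cancel_left]
  set H : Subgroup X := (ψ.range.comap (MulAut.conj g⁻¹).toMonoidHom).comap ψ with hH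
  have hHm : ∀ x, x ∈ H ↔ g⁻¹ * ψ x * g ∈ ψ.range := fun x => by
    rw [hH, Subgroup.mem_comap, Subgroup.mem_comap]
    simp
  have hgen : ∀ y ∈ P, Commute y a → Commute y b → y * a ∈ H := by
    intro y hy hya hyb
    set u := g * ψ a * g⁻¹ with hu
    have hu2 : u * u = 1 := by
      rw [hu]
      calc g * ψ a * g⁻¹ * (g * ψ a * g⁻¹) = g * ψ (a * a) * g⁻¹ := by rw [map_mul]; group
        _ = 1 := by rw [h.sq a ha, map_one]; group
    obtain ⟨k, hk, n, hkM, -, hkc⟩ := h.twist hy hu2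
    have haz : Commute a (a * b) := (Commute.refl a).mul_right hab
    have huz : Commute u z := by
      have := haz.map ψ
      rw [← (Commute.conj_iff g), ← hu, hg.eq, mul_inv_cancel_right] at this
      exact this
    have hkz : Commute k z := by
      refine commute_of_closure (fun s hs => ?_) hk
      rcases hs with rfl | rfl
      exacts [(hya.mul_right hyb).map ψ, huz]
    have hkg : k * g ∈ ψ.range := h.mem_of_conj ha (by
      rw [mul_inv_rev]; simpa [hu, mul_assoc] using hkM)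
    obtain ⟨m, hm⟩ := hkg
    have hmz : Commute m (a * b) := by
      have e : Commute (ψ m) (ψ (a * b)) := hm ▸ hkz.mul_left hg
      exact h.inj (by simpa using e.eq)
    set a' := m * a * m⁻¹ with ha'
    have ha'z : Commute a' (a * b) := by
      rw [ha']; exact (hmz.mul_left haz).mul_left hmz.inv_left
    have ha'b : a' * (a * b) = m * b * m⁻¹ := by
      rw [ha', mul_assoc (m * a), (hmz.inv_left).eq, ← mul_assoc, mul_assoc m a (a * b),
        ← mul_assoc a a b, h.sq a ha, one_mul]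
    have hr : g⁻¹ * ψ (y * a') * g ∈ ψ.range := by
      have e : k * u * k⁻¹ = ψ a' := by
        rw [ha', map_mul, map_mul, map_inv, hm, hu]; group
      rw [e, ← map_mul] at hkc
      have e2 : g⁻¹ * ψ (y * a') * g = (ψ m)⁻¹ * ψ (y * a') * ψ m := by
        rw [hm, mul_inv_rev, mul_assoc (g⁻¹ * k⁻¹), ← mul_assoc (ψ (y * a')), ← hkc.eq]
        group
      rw [e2]
      exact mul_mem (mul_mem (inv_mem ⟨m, rfl⟩) ⟨_, rfl⟩) ⟨m, rfl⟩
    rcases F.pair_factor a ha b hb hne hab a' (h.conj a ha m) ha'z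
      (ha'b ▸ h.conj b hb m) with e | e
    · rw [hHm, ← e]; exact hr
    · rw [hHm]
      have e3 : g⁻¹ * ψ (y * a) * g = g⁻¹ * ψ (y * a') * g * (g⁻¹ * z * g) := by
        rw [e, hz, show y * a = y * b * (a * b) by
          rw [hab.eq, mul_assoc y, ← mul_assoc b b, h.sq b hb, one_mul], map_mul]
        group
      rw [e3, hzc]
      exact mul_mem hr ⟨a * b, rfl⟩
  have haH : a ∈ H := by
    have := F.pair_closure a ha b hb hne hab
    refine (Subgroup.closure_le H).2 ?_ this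
    rintro w ⟨y, hy, hya, hyb, rfl⟩
    exact hgen y hy hya hyb
  have := h.mem_of_conj ha (g := g⁻¹) (by rw [inv_inv]; exact (hHm a).1 haH)
  exact inv_mem_iff.1 this

theorem mem_of_conj_good {w : X} (hw2 : w * w = 1) (hw1 : w ≠ 1)
    (hgood : ∀ g : G, Commute g (ψ w) → g ∈ ψ.range) {g : G} (hg : g * ψ w * g⁻¹ ∈ ψ.range) :
    g ∈ ψ.range := by
  obtain ⟨q, hq⟩ := hg
  have hq2 : q * q = 1 := h.inj (by
    rw [map_mul, hq, map_one]
    calc g * ψ w * g⁻¹ * (g * ψ w * g⁻¹) = g * ψ (w * w) * g⁻¹ := by rw [map_mul]; group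
      _ = 1 := by rw [hw2, map_one]; group)
  have hq1 : q ≠ 1 := fun e => hw1 (h.inj (by
    rw [e, map_one] at hq
    rw [map_one]
    exact conj_eq_one_iff.1 hq.symm))
  obtain ⟨p, hp, hpq⟩ := F.member q hq2 hq1
  have h1 : Commute (g⁻¹ * ψ p * g) (ψ w) := by
    have := hpq.map ψ
    rw [hq, ← Commute.conj_iff g⁻¹] at this
    simpa [mul_assoc] using this
  have h2 := h.mem_of_conj hp (g := g⁻¹) (by rw [inv_inv]; exact hgood _ h1)
  exact inv_mem_iff.1 h2

theorem pair_good [Finite G] {w : X} (hw : IsPair P w) :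
    w * w = 1 ∧ w ≠ 1 ∧ ∀ g : G, Commute g (ψ w) → g ∈ ψ.range := by
  obtain ⟨a, ha, b, hb, hne, hab, rfl⟩ := hw
  refine ⟨?_, fun e => hne ?_, fun g hg => h.pair_centralizer F ha hb hne hab hg⟩
  · rw [mul_assoc a b (a * b), ← mul_assoc b, ← hab.eq,
      mul_assoc a b b, h.sq b hb, mul_one, h.sq a ha]
  · rw [mul_eq_one_iff_eq_inv, inv_eq_of_mul_eq_one_right (h.sq b hb)] at e
    exact e

theorem involution_centralizer [Finite G] {w : X} (hw2 : w * w = 1) (hw1 : w ≠ 1) {g : G}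
    (hg : Commute g (ψ w)) : g ∈ ψ.range := by
  rcases F.cases w hw2 hw1 with hwP | hwp | ⟨⟨a, ha, haw, hpair⟩, y, hy, hyw, hnp, -⟩
  · exact h.mem_of_conj hwP (by rw [hg.eq, mul_inv_cancel_right]; exact ⟨w, rfl⟩)
  · exact (h.pair_good F hwp).2.2 g hg
  set u := g * ψ a * g⁻¹ with hu
  have hu2 : u * u = 1 := by
    rw [hu]
    calc g * ψ a * g⁻¹ * (g * ψ a * g⁻¹) = g * ψ (a * a) * g⁻¹ := by rw [map_mul]; group
      _ = 1 := by rw [h.sq a ha, map_one]; group
  obtain ⟨k, hk, n, hkM, hn, hkc⟩ := h.twist hy hu2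
  have huw : Commute u (ψ w) := by
    have := haw.map ψ
    rwa [← (Commute.conj_iff g), ← hu, hg.eq, mul_inv_cancel_right] at this
  have hkw : Commute k (ψ w) := by
    refine commute_of_closure (fun s hs => ?_) hk
    rcases hs with rfl | rfl
    exacts [hyw.map ψ, huw]
  obtain ⟨m, hm⟩ : k * g ∈ ψ.range := h.mem_of_conj ha (by
    rw [mul_inv_rev]; simpa [hu, mul_assoc] using hkM)
  have hmw : Commute m w := h.inj (by
    have e : Commute (ψ m) (ψ w) := hm ▸ hkw.mul_left hg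
    simpa using e.eq)
  set a' := m * a * m⁻¹ with ha'
  have e : k * u * k⁻¹ = ψ a' := by rw [ha', map_mul, map_mul, map_inv, hm, hu]; group
  rw [e, ← map_mul] at hn hkc
  have hne : y ≠ a' := by
    intro hya
    refine hnp ?_
    obtain ⟨p, hp, q, hq, hpq, hc, hpe⟩ := hpair
    refine ⟨m * p * m⁻¹, h.conj p hp m, m * q * m⁻¹, h.conj q hq m, fun e => hpq ?_, ?_, ?_⟩
    · exact mul_left_cancel (mul_right_cancel e)
    · exact (Commute.conj_iff m).2 hc
    · rw [hya, ha', show m * p * m⁻¹ * (m * q * m⁻¹) = m * (p * q) * m⁻¹ by group, hpe,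
        mul_assoc (m * a), hmw.inv_left.eq]
      group
  have hn' : (y * a') ^ 2 ^ n = 1 := h.inj (by rw [map_pow, hn, map_one])
  have hcomm : Commute y a' := by
    refine (h.three y hy a' (h.conj a ha m)).resolve_right fun h3 => hne ?_
    have h1 : orderOf (y * a') ∣ Nat.gcd (2 ^ n) 3 :=
      Nat.dvd_gcd (orderOf_dvd_of_pow_eq_one hn') (orderOf_dvd_of_pow_eq_one h3)
    rw [Nat.Coprime.gcd_eq_one (Nat.Coprime.pow_left n (by norm_num)), Nat.dvd_one,
      orderOf_eq_one_iff, mul_eq_one_iff_eq_inv,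
      inv_eq_of_mul_eq_one_right (h.sq a' (h.conj a ha m))] at h1
    exact h1
  obtain ⟨hr2, hr1, hgood⟩ := h.pair_good F ⟨y, hy, a', h.conj a ha m, hne, hcomm, rfl⟩
  refine inv_mem_iff.1 (h.mem_of_conj_good F hr2 hr1 hgood (g := g⁻¹) ?_)
  have e2 : g⁻¹ * ψ (y * a') * g⁻¹⁻¹ = (ψ m)⁻¹ * ψ (y * a') * ψ m := by
    rw [hm, inv_inv, mul_inv_rev, mul_assoc (g⁻¹ * k⁻¹), ← mul_assoc (ψ (y * a')), ← hkc.eq]
    group
  rw [e2]
  exact mul_mem (mul_mem (inv_mem ⟨m, rfl⟩) ⟨_, rfl⟩) ⟨m, rfl⟩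

/-- The embedded group is everything. -/
theorem range_eq_top [Finite G] : ψ.range = ⊤ := by
  rw [eq_top_iff]
  rintro g -
  obtain ⟨z, hz⟩ := F.exists_pair
  obtain ⟨hz2, hz1, hzc⟩ := h.pair_good F hz
  obtain ⟨t, ht, htd⟩ := h.base
  set e := g * d * g⁻¹ with he
  have hd2 : d * d = 1 := by rw [← htd, ← map_mul, h.sq t ht, map_one]
  have he2 : e * e = 1 := by
    rw [he]
    calc g * d * g⁻¹ * (g * d * g⁻¹) = g * (d * d) * g⁻¹ := by group
      _ = 1 := by rw [hd2]; group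
  have hz2' : ψ z * ψ z = 1 := by rw [← map_mul, hz2, map_one]
  obtain ⟨k, hk, n, hn, hkc⟩ := exists_two_power hz2' he2
  set e' := k * e * k⁻¹ with he'
  set r := ψ z * e' with hr
  have hr1 : r ≠ 1 := fun h1 => F.pair_not_mem z hz (h.trace z (isConj_iff.2 ⟨k * g, by
    rw [hr, mul_eq_one_iff_inv_eq, inv_eq_of_mul_eq_one_right hz2'] at h1
    rw [h1, he', he]; group⟩))
  obtain ⟨w, hw2, hw1, hwr⟩ : ∃ w : G, w * w = 1 ∧ w ≠ 1 ∧ w ∈ Subgroup.zpowers r := by
    clear hkc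
    revert hn hr1
    generalize r = r
    induction n generalizing r with
    | zero => intro hn hr1; simp at hn; exact absurd hn hr1
    | succ n ih =>
      intro hn hr1
      by_cases hs : r * r = 1
      · exact ⟨r, hs, hr1, Subgroup.mem_zpowers r⟩
      · obtain ⟨w, h1, h2, h3⟩ := ih (r * r) (by rw [← pow_two, ← pow_mul, ← pow_succ']; exact hn) hs
        exact ⟨w, h1, h2, Subgroup.zpowers_le.2 (mul_mem (Subgroup.mem_zpowers r) (Subgroup.mem_zpowers r)) h3⟩
  obtain ⟨i, rfl⟩ := hwr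
  have he'2 : e' * e' = 1 := by
    calc e' * e' = k * (e * e) * k⁻¹ := by rw [he']; group
      _ = 1 := by rw [he2]; group
  have hinv : ψ z * r * ψ z = r⁻¹ := by
    rw [hr, mul_inv_rev, inv_eq_of_mul_eq_one_right hz2', inv_eq_of_mul_eq_one_right he'2, ← mul_assoc,
      hz2', one_mul]
  have hwz : Commute (r ^ i) (ψ z) := by
    have h1 : ψ z * r ^ i * (ψ z)⁻¹ = (r ^ i)⁻¹ := by
      rw [← conj_zpow, show (ψ z)⁻¹ = ψ z from inv_eq_of_mul_eq_one_right hz2', hinv, inv_zpow]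
    rw [inv_eq_of_mul_eq_one_right hw2] at h1
    exact (mul_inv_eq_iff_eq_mul.1 h1).symm
  obtain ⟨w', hw'⟩ := hzc _ hwz
  have hwe : Commute (r ^ i) e := by
    have h1 : Commute (r ^ i) e' := by
      have := hwz.mul_right ((Commute.refl r).zpow_left i)
      have e1 : ψ z * r = e' := by rw [hr, ← mul_assoc, hz2', one_mul]
      rwa [e1] at this
    have h2 : Commute (r ^ i) k := (hkc.zpow_right i).symm
    have h3 := (h2.inv_right.mul_right h1).mul_right h2
    simpa [he', mul_assoc] using h3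
  have heM : e ∈ ψ.range := by
    refine h.involution_centralizer F (w := w') (h.inj ?_) ?_ (hw' ▸ hwe.symm)
    · rw [map_mul, hw', hw2, map_one]
    · intro h1; rw [h1, map_one] at hw'; exact hw1 hw'.symm
  rw [← htd] at he
  exact h.mem_of_conj ht (he ▸ heM)

end Setting

end CfsgLib.Sporadic.Fi23Centralizer.Embedded
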