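import Cfsg.Agent.Lib.Sporadic.Fi23Centralizer.Points
import Cfsg.Agent.Lib.Sporadic.Fi23Centralizer.CheckSyl1
import Cfsg.Agent.Lib.Sporadic.Fi23Centralizer.CheckSyl2
import Cfsg.Agent.Lib.Sporadic.Fi23Centralizer.CheckSyl3
import Cfsg.Agent.Lib.Sporadic.Fi23Centralizer.CheckSyl4

/-!
Involutions fixing the base point are products of at most three commuting transpositions fixing it,
and the base transposition has no square root fixing it.
-/

set_option autoImplicit false
set_option maxRecDepth 100000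

open Cfsg.Spor

namespace CfsgLib.Sporadic.Fi23Centralizer

open CosetCert CosetCert.Fi23P
open Fi23Data (table forestH)
open Two (el el_img el_append el_nil dp conj_dp gpt genPts eq_of_sameK sameK e U e_xor e_zero e_inv e_eq_one
  e_inj coords actV mulAt permAt upWord vecWord invList HasPerm syl eSub fpt)
open OutFi (dp_injective dp_sq)

attribute [local irreducible] PTab.img Forest.cls

/-- A list of distinct commuting transpositions fixing a point, as a normal form of an involution. -/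
def Form (c : Fin table.N) (x : Fi23) : Prop :=
  ∃ L : List (Fin table.N), L.length ≤ 3 ∧ L.Pairwise Adj ∧ (∀ p ∈ L, hom (dp p) c = c) ∧
    x = (L.map dp).prod

theorem Form.conj {c : Fin table.N} {x : Fi23} (h : Form c x) (g : Fi23) :
    Form (hom g c) (g * x * g⁻¹) := by
  obtain ⟨L, h1, h2, h3, rfl⟩ := h
  refine ⟨L.map (hom g), by simpa using h1, (List.pairwise_map).2 (h2.imp (fun hp => (adj_conj g).2 hp)), ?_, ?_⟩
  · intro p hp
    obtain ⟨q, hq, rfl⟩ := List.mem_map.1 hp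
    exact (fix_conj g q c).2 (h3 q hq)
  · have e : ∀ M : List (Fin table.N), g * (M.map dp).prod * g⁻¹ = ((M.map (hom g)).map dp).prod := by
      intro M
      induction M with
      | nil => simp
      | cons p M ih =>
        rw [List.map_cons, List.prod_cons, List.map_cons, List.map_cons, List.prod_cons, ← ih, ← conj_dp]
        group
    exact e L

/-- The eighteenth point of the frame. -/
noncomputable def c18 : Fin table.N := fpt 18

theorem U_fix {a : ℕ} (ha : a < 128) : hom (U a) c18 = c18 := by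
  have hK := cover_ok
  simp only [coverK, Bool.and_eq_true] at hK
  have h1 := Nat.eq_of_beq_eq_true (List.all_eq_true.1 hK.2 a (List.mem_range.2 ha))
  have h2 := (Two.U_frame 7 le_rfl a ha 18 (by norm_num)).2
  rwa [h1] at h2

theorem e_fix (v : ℕ) : hom (e v) c18 = c18 := by
  rw [Two.e_eq_ev]; exact Two.ev_fix le_rfl v (by norm_num)

theorem syl_fix {g : Fi23} (hg : g ∈ syl) : hom g c18 = c18 := by
  obtain ⟨v, a, -, ha, rfl⟩ := Two.mem_syl.1 hg
  rw [map_mul, Equiv.Perm.mul_apply, U_fix ha, e_fix]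

theorem dp_c18 : dp c18 = e (coords.getD 18 0) := by
  rw [c18, ← Two.d_eq (by norm_num), Two.d_coord (by norm_num)]

theorem root_form {a : ℕ} {r : ℕ × List ℕ} (h : rootK a r = true) : Form c18 (e r.1 * U a) := by
  simp only [rootK, Bool.and_eq_true, cliqueK, List.all_eq_true, Nat.blt_eq] at h
  obtain ⟨⟨⟨⟨-, hlen⟩, hlt, hcl⟩, hfix⟩, heq⟩ := h
  refine ⟨r.2.reverse.map pp, ?_, ?_, ?_, ?_⟩
  · rw [List.length_map, List.length_reverse]
    exact Nat.le_of_ble_eq_true hlen
  · rw [List.pairwise_map, List.pairwise_reverse, List.pairwise_iff_getElem]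
    intro s t hs ht hst
    have h2 := hcl t (List.mem_range.2 ht) s (List.mem_range.2 hst)
    rw [List.getD_eq_getElem _ _ hs, List.getD_eq_getElem _ _ ht] at h2
    simp only [Bool.and_eq_true, Bool.not_eq_true'] at h2
    have hi := hlt _ (List.getElem_mem hs)
    have hj := hlt _ (List.getElem_mem ht)
    refine Adj.symm ⟨fun e => ?_, (fixesK_iff hi hj).1 h2.2⟩
    have := congrArg Fin.val e
    rw [pp_val hi, pp_val hj] at this
    rw [this, Nat.beq_refl] at h2
    exact Bool.noConfusion h2.1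
  · intro p hp
    obtain ⟨i, hi, rfl⟩ := List.mem_map.1 hp
    rw [List.mem_reverse] at hi
    rw [fix_pp_iff (hlt i hi)]
    have : (c18 : ℕ) = 3406 := by
      rw [c18, Two.fpt_val (by norm_num)]
      rfl
    rw [this]
    exact Nat.eq_of_beq_eq_true (hfix i hi)
  · rw [List.map_map]
    refine Eq.trans ?_ (el_flatMap hlt)
    show el (vecWord r.1) * el (upWord a) = _
    rw [← el_append]
    refine eq_of_sameK (fun x hx => ?_) (flatMap_lt hlt) ?_
    · rcases List.mem_append.1 hx with hx | hx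
      exacts [Two.upWord_lt _ x hx, Two.vecWord_lt _ x hx]
    · exact List.all_eq_true.2 fun p hp => by
        rw [Nat.beq_eq.mpr (Nat.eq_of_beq_eq_true (heq p hp)).symm]

/-- A row read as a statement. -/
theorem row_spec {R : SylRow} (h : rowK R = true) :
    R.a < 128 ∧ U R.a * U R.a = e R.c ∧
      (∀ e' ∈ R.image, e'.2 < 2048 ∧ e'.2 ^^^ actV R.a e'.2 = e'.1) ∧
      (∀ r ∈ R.roots, r.1 < 2048 ∧ Form c18 (e r.1 * U R.a)) ∧
      (∀ v < 2048, v ^^^ actV R.a v ^^^ R.c ≠ coords.getD 18 0) ∧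
      R.c < 2048 ∧
      (R.a ≠ 0 → ∀ v < 2048, v ^^^ actV R.a v ^^^ R.c = 0 →
        ∃ r ∈ R.roots, ∃ e' ∈ R.image, e'.1 = v ^^^ r.1) := by
  simp only [rowK, Bool.and_eq_true] at h
  obtain ⟨⟨⟨⟨⟨⟨ha, hc⟩, hsq⟩, him⟩, hroot⟩, htr⟩, hsol⟩ := h
  refine ⟨Nat.le_of_ble_eq_true ha, ?_, ?_, ?_, ?_, Nat.le_of_ble_eq_true hc, ?_⟩
  · have h1 := eq_of_sameK (A := upWord R.a ++ upWord R.a) (B := upWord 0 ++ vecWord R.c)
      (fun x hx => (List.mem_append.1 hx).elim (Two.upWord_lt _ x) (Two.upWord_lt _ x))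
      (fun x hx => (List.mem_append.1 hx).elim (Two.upWord_lt _ x) (Two.vecWord_lt _ x)) hsq
    rw [el_append, el_append] at h1
    have h2 : U R.a * U R.a = e R.c * U 0 := h1
    rw [Two.U_zero, mul_one] at h2
    exact h2
  · intro e' he
    have := List.all_eq_true.1 him e' he
    rw [Bool.and_eq_true] at this
    exact ⟨Nat.le_of_ble_eq_true this.1, Nat.eq_of_beq_eq_true this.2⟩
  · intro r hr
    have h1 := List.all_eq_true.1 hroot r hr
    refine ⟨?_, root_form h1⟩
    simp only [rootK, Bool.and_eq_true] at h1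
    exact Nat.le_of_ble_eq_true h1.1.1.1.1
  · intro v hv e1
    have := List.all_eq_true.1 htr v (List.mem_range.2 hv)
    rw [Bool.not_eq_true'] at this
    rw [show Nat.xor (Nat.xor v (actV R.a v)) R.c = coords.getD 18 0 from e1, Nat.beq_refl] at this
    exact Bool.noConfusion this
  · intro ha0 v hv e1
    rw [Bool.or_eq_true] at hsol
    rcases hsol with h0 | h0
    · exact absurd (Nat.eq_of_beq_eq_true h0) ha0
    have := List.all_eq_true.1 h0 v (List.mem_range.2 hv)
    rw [show Nat.xor (Nat.xor v (actV R.a v)) R.c = 0 from e1, Nat.beq_refl, Bool.not_true,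
      Bool.false_or] at this
    obtain ⟨r, hr, h2⟩ := List.any_eq_true.1 this
    obtain ⟨e', he, h3⟩ := List.any_eq_true.1 h2
    exact ⟨r, hr, e', he, Nat.eq_of_beq_eq_true h3⟩

theorem exists_row {a : ℕ} (ha : a < 128) (h : mulAt a a = 0) :
    ∃ R : SylRow, rowK R = true ∧ R.a = a := by
  have hK := cover_ok
  simp only [coverK, Bool.and_eq_true] at hK
  obtain ⟨⟨⟨h1, h0⟩, hlen⟩, -⟩ := hK
  by_cases ha0 : a = 0
  · have hl : 0 < sylRows0.length := Nat.le_of_ble_eq_true hlen
    have hm := List.getElem_mem hl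
    have := List.all_eq_true.1 h0 _ hm
    rw [Bool.and_eq_true] at this
    subst ha0
    exact ⟨_, List.all_eq_true.1 syl0_ok _ hm, Nat.eq_of_beq_eq_true this.1⟩
  · obtain ⟨R, hR, he⟩ := List.any_eq_true.1 (List.all_eq_true.1 h1 a (Two.invList_of ha ha0 h))
    refine ⟨R, ?_, Nat.eq_of_beq_eq_true he⟩
    simp only [allRows, List.mem_append] at hR
    rcases hR with ((hR | hR) | hR) | hR
    exacts [List.all_eq_true.1 syl1_ok R hR, List.all_eq_true.1 syl2_ok R hR,
      List.all_eq_true.1 syl3_ok R hR, List.all_eq_true.1 syl4_ok R hR]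

theorem sq_eq {a c : ℕ} (ha : a < 128) (hc : U a * U a = e c) (v : ℕ) :
    e v * U a * (e v * U a) = e (v ^^^ actV a v ^^^ c) := by
  rw [e_xor, e_xor, ← hc, ← Two.conj_e ha v]
  group

theorem vec_form {v : ℕ} (hv : v < 2048) : Form c18 (e v * U 0) := by
  have hK := cover_ok
  simp only [coverK, Bool.and_eq_true] at hK
  have hl : 0 < sylRows0.length := Nat.le_of_ble_eq_true hK.1.2
  have hm := List.getElem_mem hl
  obtain ⟨-, -, -, hroot, -, -, -⟩ := row_spec (List.all_eq_true.1 syl0_ok _ hm)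
  have ha0 : (sylRows0[0]'hl).a = 0 := by
    have := List.all_eq_true.1 hK.1.1.2 _ hm
    rw [Bool.and_eq_true] at this
    exact Nat.eq_of_beq_eq_true this.1
  rw [ha0] at hroot
  have hv' := vec_ok
  simp only [vecK, Bool.and_eq_true] at hv'
  rw [List.getD_eq_getElem _ _ hl] at hv'
  obtain ⟨hsteps, hall⟩ := hv'
  let Q : ℕ → Prop := fun w => Form c18 (e w * U 0)
  have hbase : ∀ w, Nat.testBit (maskOf ((sylRows0[0]'hl).roots.map Prod.fst)) w = true → Q w := by
    intro w hw
    obtain ⟨r, hr, rfl⟩ := List.mem_map.1 (testBit_maskOf _ _ hw)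
    exact (hroot r hr).2
  have hstep : ∀ i < 7, ∀ w, Q w → Q (actV (2 ^ i) w) := by
    intro i hi w hw
    have hi' : 2 ^ i < 128 := by
      calc 2 ^ i < 2 ^ 7 := Nat.pow_lt_pow_right (by norm_num) hi
        _ = 128 := by norm_num
    have := hw.conj (U (2 ^ i))
    rw [U_fix hi', Two.U_zero, mul_one, Two.conj_e hi' w] at this
    show Form c18 _
    rwa [Two.U_zero, mul_one]
  have hall' := testBit_maskOf _ _ (List.all_eq_true.1 hall v (List.mem_range.2 hv))
  rcases List.mem_append.1 hall' with h | h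
  · obtain ⟨r, hr, rfl⟩ := List.mem_map.1 h
    exact (hroot r hr).2
  · obtain ⟨s, hs, rfl⟩ := List.mem_map.1 h
    exact stepsK_spec Q hstep vecSteps _ hbase hsteps s hs

theorem syl_invol {x : Fi23} (hx : x ∈ syl) (h2 : x * x = 1) : Form c18 x := by
  obtain ⟨v, a, hv, ha, rfl⟩ := Two.mem_syl.1 hx
  have hperm := Two.hasPerm_eU v ha
  have hmul : mulAt a a = 0 :=
    Two.hasPerm_unique (Two.hasPerm_mul hperm hperm) (h2.symm ▸ Two.hasPerm_one)
  obtain ⟨R, hR, rfl⟩ := exists_row ha hmul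
  obtain ⟨-, hsq, him, hroot, -, hc, hsol⟩ := row_spec hR
  by_cases ha0 : R.a = 0
  · rw [ha0]; exact vec_form hv
  have h0 : v ^^^ actV R.a v ^^^ R.c = 0 :=
    e_eq_one (Nat.xor_lt_two_pow (n := 11) (Nat.xor_lt_two_pow (n := 11) hv (Two.actV_lt ha v)) hc)
      (by rw [← sq_eq ha hsq, h2])
  obtain ⟨r, hr, w, hw, he⟩ := hsol ha0 v hv h0
  obtain ⟨-, hwe⟩ := him w hw
  have := ((hroot r hr).2).conj (e w.2)
  rw [e_fix] at this
  have e1 : e w.2 * (e r.1 * U R.a) * (e w.2)⁻¹ = e v * U R.a := by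
    have hv' : v = (w.2 ^^^ actV R.a w.2) ^^^ r.1 := by
      rw [hwe, he, Nat.xor_assoc, Nat.xor_self, Nat.xor_zero]
    conv_rhs => rw [hv', Nat.xor_assoc, Nat.xor_comm (actV R.a w.2) r.1, e_xor, e_xor, ← Two.conj_e ha w.2]
    rw [e_inv]
    group
  rwa [e1] at this

theorem syl_not_sq {x : Fi23} (hx : x ∈ syl) : x * x ≠ dp c18 := by
  intro h2
  rw [dp_c18] at h2
  obtain ⟨v, a, hv, ha, rfl⟩ := Two.mem_syl.1 hx
  have hperm := Two.hasPerm_eU v ha
  have h0 : HasPerm (e (coords.getD 18 0)) 0 := by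
    have := Two.hasPerm_eU (coords.getD 18 0) (show 0 < 128 by norm_num)
    rwa [Two.U_zero, mul_one] at this
  have hmul : mulAt a a = 0 := Two.hasPerm_unique (Two.hasPerm_mul hperm hperm) (h2.symm ▸ h0)
  obtain ⟨R, hR, rfl⟩ := exists_row ha hmul
  obtain ⟨-, hsq, -, -, htr, hc, -⟩ := row_spec hR
  rw [sq_eq ha hsq] at h2
  exact htr v hv (e_inj (Nat.xor_lt_two_pow (n := 11) (Nat.xor_lt_two_pow (n := 11) hv (Two.actV_lt ha v)) hc)
    (Two.coord_lt (by norm_num)) h2)

/-- The elements fixing a point. -/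
noncomputable def fixer (c : Fin table.N) : Subgroup Fi23 :=
  (MulAction.stabilizer (Equiv.Perm (Fin table.N)) c).comap hom

theorem mem_fixer {c : Fin table.N} {g : Fi23} : g ∈ fixer c ↔ hom g c = c := Iff.rfl

theorem card_fixer (c : Fin table.N) : Nat.card (fixer c) = 129123503308800 := by
  obtain ⟨k, hk⟩ := transitive c
  have he : (sub lH).map (MulAut.conj k).toMonoidHom = fixer c := by
    ext g
    rw [Subgroup.mem_map, mem_fixer]
    constructor
    · rintro ⟨y, hy, rfl⟩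
      show hom (k * y * k⁻¹) c = c
      rw [← hk, map_mul, map_mul, Equiv.Perm.mul_apply, Equiv.Perm.mul_apply, map_inv,
        inv_app, hom_fix y hy]
    · intro hg
      refine ⟨k⁻¹ * g * k, Two.stab_le ?_, ?_⟩
      · rw [map_mul, map_mul, Equiv.Perm.mul_apply, Equiv.Perm.mul_apply, hk, hg, map_inv, ← hk,
          inv_app]
      · show k * (k⁻¹ * g * k) * k⁻¹ = g
        group
  rw [← he, Subgroup.card_map_of_injective (MulAut.conj k).injective, card_sub_H]

theorem exists_conj_syl {x : Fi23} (hx : hom x c18 = c18) (n : ℕ) (h2 : x ^ 2 ^ n = 1) :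
    ∃ g : Fi23, hom g c18 = c18 ∧ g * x * g⁻¹ ∈ syl := by
  have := finite
  haveI : Fact (Nat.Prime 2) := ⟨Nat.prime_two⟩
  set S := fixer c18 with hS
  have hle : syl ≤ S := fun g hg => syl_fix hg
  have hcard : Nat.card (syl.subgroupOf S) = 2 ^ 18 :=
    (Nat.card_congr (Subgroup.subgroupOfEquivOfLe hle).toEquiv).trans Two.card_syl
  have hidx : ¬ 2 ∣ (syl.subgroupOf S).index := by
    have h := (syl.subgroupOf S).card_mul_index
    rw [hcard, hS, card_fixer] at h
    have h' : (syl.subgroupOf S).index = 129123503308800 / 2 ^ 18 := by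
      rw [← h, Nat.mul_div_cancel_left _ (by norm_num)]
    rw [h']
    norm_num
  let P := (IsPGroup.of_card hcard).toSylow hidx
  have hp : IsPGroup 2 (Subgroup.zpowers (⟨x, hx⟩ : S)) := by
    obtain ⟨k, -, hk⟩ := (Nat.dvd_prime_pow Nat.prime_two).1 (orderOf_dvd_of_pow_eq_one h2)
    refine IsPGroup.of_card (n := k) ?_
    rw [Nat.card_zpowers, ← Subgroup.orderOf_coe]; exact hk
  obtain ⟨Q, hQ⟩ := hp.exists_le_sylow
  obtain ⟨g, hg⟩ := MulAction.exists_smul_eq S Q P
  refine ⟨g, g.2, ?_⟩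
  have h1 : g * ⟨x, hx⟩ * g⁻¹ ∈ (P : Subgroup S) := by
    rw [← hg]
    exact Subgroup.mem_map.2 ⟨_, hQ (Subgroup.mem_zpowers _), rfl⟩
  exact h1

/-- An involution fixing a point is a product of at most three commuting transpositions fixing it. -/
theorem invol_form {c : Fin table.N} {x : Fi23} (hx : hom x c = c) (h2 : x * x = 1) : Form c x := by
  obtain ⟨k, hk⟩ : ∃ k : Fi23, hom k c = c18 := by
    obtain ⟨a, ha⟩ := transitive c
    obtain ⟨b, hb⟩ := transitive c18
    exact ⟨b * a⁻¹, by rw [map_mul, Equiv.Perm.mul_apply, map_inv, ← ha, inv_app, hb]⟩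
  have hx' : hom (k * x * k⁻¹) c18 = c18 := by
    rw [map_mul, map_mul, Equiv.Perm.mul_apply, Equiv.Perm.mul_apply, map_inv, ← hk,
      inv_app, hx]
  obtain ⟨g, hg, hsyl⟩ := exists_conj_syl hx' 1 (by
    calc (k * x * k⁻¹) ^ 2 ^ 1 = k * (x * x) * k⁻¹ := by rw [pow_one, pow_two]; group
      _ = 1 := by rw [h2]; group)
  have := (syl_invol hsyl (by
    calc g * (k * x * k⁻¹) * g⁻¹ * (g * (k * x * k⁻¹) * g⁻¹) = g * k * (x * x) * k⁻¹ * g⁻¹ := by group
      _ = 1 := by rw [h2]; group)).conj (g * k)⁻¹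
  have e1 : hom (g * k)⁻¹ c18 = c := by
    rw [map_inv, Equiv.Perm.inv_eq_iff_eq, map_mul, Equiv.Perm.mul_apply, hk, hg]
  rw [e1] at this
  convert this using 1
  group

/-- The transposition of a point has no square root fixing the point. -/
theorem not_sq {c : Fin table.N} {x : Fi23} (hx : hom x c = c) : x * x ≠ dp c := by
  intro h2
  obtain ⟨k, hk⟩ : ∃ k : Fi23, hom k c = c18 := by
    obtain ⟨a, ha⟩ := transitive c
    obtain ⟨b, hb⟩ := transitive c18
    exact ⟨b * a⁻¹, by rw [map_mul, Equiv.Perm.mul_apply, map_inv, ← ha, inv_app, hb]⟩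
  have hx' : hom (k * x * k⁻¹) c18 = c18 := by
    rw [map_mul, map_mul, Equiv.Perm.mul_apply, Equiv.Perm.mul_apply, map_inv, ← hk,
      inv_app, hx]
  have h2' : k * x * k⁻¹ * (k * x * k⁻¹) = dp c18 := by
    rw [show k * x * k⁻¹ * (k * x * k⁻¹) = k * (x * x) * k⁻¹ by group, h2, conj_dp, hk]
  obtain ⟨g, hg, hsyl⟩ := exists_conj_syl hx' 2 (by
    rw [show (2 : ℕ) ^ 2 = 2 * 2 from rfl, pow_mul, pow_two (k * x * k⁻¹), h2', pow_two, dp_sq])
  refine syl_not_sq hsyl ?_
  rw [show g * (k * x * k⁻¹) * g⁻¹ * (g * (k * x * k⁻¹) * g⁻¹) = g * (k * x * k⁻¹ * (k * x * k⁻¹)) * g⁻¹ by group,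
    h2', conj_dp, hg]

end CfsgLib.Sporadic.Fi23Centralizer
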