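import Cfsg.Agent.Lib.Sporadic.Fi23Centralizer.Tree
import Cfsg.Agent.Lib.Sporadic.Fi23Centralizer.Syl
import Cfsg.Agent.Lib.Sporadic.Fi23Centralizer.Embedded

/-!
The involutions of the model and of the centraliser of its base transposition.
-/

set_option autoImplicit false
set_option maxRecDepth 100000

open Cfsg.Spor

namespace CfsgLib.Sporadic.Fi23Centralizer

open CosetCert CosetCert.Fi23P FiTransfer23
open Fi23Data (table forestH)
open Two (el el_img el_append el_nil el_single dp conj_dp gpt gpt_val gen_eq_dp genPts eq_of_sameK syl)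
open OutFi (dp_injective dp_sq dp_ne_one)
open FiTransfer23.Near (commute_dp_iff dp_mem el_gen)
open ThreeTransp.TypeTwentyFour.Model (class_eq tr_eq_dp)

attribute [local irreducible] PTab.img Forest.cls

/-- The number of points fixed. -/
noncomputable def cnt (x : Fi23) : ℕ := (Finset.univ.filter fun u : Fin table.N => hom x u = u).card

theorem cnt_conj (g x : Fi23) : cnt (g * x * g⁻¹) = cnt x := by
  refine (Finset.card_equiv (hom g) fun u => ?_).symm
  simp only [Finset.mem_filter, Finset.mem_univ, true_and, map_mul, Equiv.Perm.mul_apply, map_inv,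
    inv_app, EmbeddingLike.apply_eq_iff_eq]

theorem fixCountK_eq (w : List ℕ) :
    fixCountK w = ((Finset.range 31671).filter fun u => table.imgW w u = u).card := by
  have h : ∀ n : ℕ,
      Nat.rec 0 (fun u ih => bif Nat.beq (table.imgW w u) u then Nat.succ ih else ih) n =
        ((Finset.range n).filter fun u => table.imgW w u = u).card := by
    intro n
    induction n with
    | zero => rfl
    | succ n ih =>
      rw [Finset.range_add_one, Finset.filter_insert]
      show (bif Nat.beq (table.imgW w n) n then Nat.succ _ else _) = _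
      by_cases hn : table.imgW w n = n
      · rw [if_pos hn, Finset.card_insert_of_notMem (by simp), ← ih, Nat.beq_eq.mpr hn, cond_true]
      · rw [if_neg hn, ← ih, show Nat.beq (table.imgW w n) n = false from
          (Bool.not_eq_true _).mp fun h => hn (Nat.eq_of_beq_eq_true h), cond_false]
  exact h 31671

theorem cnt_el {w : List ℕ} (hw : ∀ x ∈ w, x < 10) : cnt (el w) = fixCountK w := by
  rw [fixCountK_eq, cnt, ← Finset.card_map Fin.valEmbedding]
  congr 1
  ext u
  simp only [Finset.mem_map, Finset.mem_filter, Finset.mem_univ, true_and, Fin.valEmbedding_apply,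
    Finset.mem_range]
  constructor
  · rintro ⟨p, hp, rfl⟩
    exact ⟨p.2, by rw [← el_img hw, hp]⟩
  · rintro ⟨hu, h⟩
    exact ⟨⟨u, hu⟩, Fin.ext (by rw [el_img hw]; exact h), rfl⟩

/-- Two of the generators as a pair of points. -/
theorem gpt_adj {x y : ℕ} (hx : x < 10) (hy : y < 10)
    (h : (Nat.beq (table.img x (genPts.getD y 0)) (genPts.getD y 0) &&
      !(Nat.beq (genPts.getD x 0) (genPts.getD y 0))) = true) : Adj (gpt x) (gpt y) := by
  rw [Bool.and_eq_true, Bool.not_eq_true'] at h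
  refine ⟨fun e => ?_, (fix_gen_iff hx _).2 (by rw [gpt_val hy]; exact Nat.eq_of_beq_eq_true h.1)⟩
  rw [← gpt_val hx, ← gpt_val hy, e, Nat.beq_refl] at h
  exact Bool.noConfusion h.2

theorem gen_checks : ([(2, 0), (4, 0), (4, 2), (9, 0), (9, 2), (9, 4)].all fun e =>
    Nat.beq (table.img e.1 (genPts.getD e.2 0)) (genPts.getD e.2 0) &&
      !(Nat.beq (genPts.getD e.1 0) (genPts.getD e.2 0))) = true := by decide +kernel

theorem adj_gens {x y : ℕ} (h : (x, y) ∈ [(2, 0), (4, 0), (4, 2), (9, 0), (9, 2), (9, 4)]) :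
    Adj (gpt x) (gpt y) := by
  have hb := List.all_eq_true.1 gen_checks _ h
  refine gpt_adj ?_ ?_ hb
  all_goals
    simp only [List.mem_cons, Prod.mk.injEq, List.not_mem_nil, or_false] at h
    omega

theorem cnt_pair_eq {p q p' q' : Fin table.N} (h : Adj p q) (h' : Adj p' q') :
    cnt (dp p * dp q) = cnt (dp p' * dp q') := by
  obtain ⟨g, hg, hg'⟩ := trans_pair h
  obtain ⟨k, hk, hk'⟩ := trans_pair h'
  rw [← cnt_conj g, ← cnt_conj k (dp p' * dp q'), ← conj_mul, conj_dp, conj_dp, hg, hg', ← conj_mul,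
    conj_dp, conj_dp, hk, hk']

theorem cnt_pair_lt {p q : Fin table.N} (h : Adj p q) : cnt (dp p * dp q) < 700 := by
  rw [cnt_pair_eq h (adj_gens (x := 2) (y := 0) (by simp))]
  have : el [0, 2] = dp (gpt 2) * dp (gpt 0) := by
    rw [show [0, 2] = [0] ++ [2] from rfl, el_append, el_gen (by norm_num), el_gen (by norm_num)]
  rw [← this, cnt_el (by decide)]
  exact Nat.le_of_ble_eq_true count2_ok

theorem cnt_triple_lt {p q r : Fin table.N} (h : Adj p q) (h' : Adj p r) (h'' : Adj q r) :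
    cnt (dp p * dp q * dp r) < 693 := by
  obtain ⟨g, hg, hg', hg''⟩ := trans_triple h h' h''
  obtain ⟨k, hk, hk', hk''⟩ := trans_triple (adj_gens (x := 4) (y := 2) (by simp))
    (adj_gens (x := 4) (y := 0) (by simp)) (adj_gens (x := 2) (y := 0) (by simp))
  have e : el [0, 2, 4] = dp (gpt 4) * dp (gpt 2) * dp (gpt 0) := by
    rw [show [0, 2, 4] = [0] ++ ([2] ++ [4]) from rfl, el_append, el_append, el_gen (by norm_num),
      el_gen (by norm_num), el_gen (by norm_num)]
  rw [← cnt_conj g, ← conj_mul, ← conj_mul, conj_dp, conj_dp, conj_dp, hg, hg', hg'', ← hk, ← hk',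
    ← hk'', ← conj_dp, ← conj_dp, ← conj_dp, conj_mul, conj_mul, cnt_conj, ← e, cnt_el (by decide)]
  exact Nat.le_of_ble_eq_true count3_ok

theorem cnt_quad_lt {p q r s : Fin table.N} (h : Adj p q) (h' : Adj p r) (h'' : Adj q r)
    (l : Adj p s) (l' : Adj q s) (l'' : Adj r s) : cnt (dp p * dp q * dp r * dp s) < 693 := by
  obtain ⟨g, hg, hg', hg'', hg'''⟩ := trans_quad h h' h'' l l' l''
  obtain ⟨k, hk, hk', hk'', hk'''⟩ := trans_quad (adj_gens (x := 9) (y := 4) (by simp))
    (adj_gens (x := 9) (y := 2) (by simp)) (adj_gens (x := 4) (y := 2) (by simp))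
    (adj_gens (x := 9) (y := 0) (by simp)) (adj_gens (x := 4) (y := 0) (by simp))
    (adj_gens (x := 2) (y := 0) (by simp))
  have e : el [0, 2, 4, 9] = dp (gpt 9) * dp (gpt 4) * dp (gpt 2) * dp (gpt 0) := by
    rw [show [0, 2, 4, 9] = [0] ++ ([2] ++ ([4] ++ [9])) from rfl, el_append, el_append, el_append,
      el_gen (by norm_num), el_gen (by norm_num), el_gen (by norm_num), el_gen (by norm_num)]
  rw [← cnt_conj g, ← conj_mul, ← conj_mul, ← conj_mul, conj_dp, conj_dp, conj_dp, conj_dp, hg, hg', hg'',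
    hg''', ← hk, ← hk', ← hk'', ← hk''', ← conj_dp, ← conj_dp, ← conj_dp, ← conj_dp, conj_mul, conj_mul,
    conj_mul, cnt_conj, ← e, cnt_el (by decide)]
  exact Nat.le_of_ble_eq_true count4_ok

theorem cnt_dp (p : Fin table.N) : 3510 ≤ cnt (dp p) := by
  obtain ⟨g, rfl⟩ := transitive p
  rw [← conj_dp, cnt_conj]
  have h : (forestH.classSet table 1).card = 3510 := by
    rw [Forest.card_classSet]; exact Fi23Data.forestH_count1
  rw [← h]
  refine Finset.card_le_card fun u hu => ?_
  rw [Forest.mem_classSet] at hu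
  simpa using ((cls_one_iff u).1 hu).2

theorem inV_fix {u : Fin table.N} (h : InV u) : hom (dp pt * dp fst0) u = u := by
  rw [map_mul, Equiv.Perm.mul_apply, h.2.2, h.1.2]

theorem cnt_pair {p q : Fin table.N} (h : Adj p q) : 693 ≤ cnt (dp p * dp q) := by
  rw [cnt_pair_eq h adj_pt_fst]
  have hK := vList_ok
  simp only [vListK, Bool.and_eq_true, List.all_eq_true] at hK
  obtain ⟨⟨hlen, hinc⟩, hall⟩ := hK
  have hlen' : vList.length = 693 := Nat.eq_of_beq_eq_true hlen
  have hlt : ∀ i : Fin 693, vList.getD i 0 < table.N := fun i => by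
    have hm : vList.getD i 0 ∈ vList := by
      rw [List.getD_eq_getElem _ _ (by omega)]; exact List.getElem_mem _
    have := hall _ hm
    exact Nat.le_of_ble_eq_true this.1.1.1
  have hinj : StrictMono fun i : Fin 693 => (⟨vList.getD i 0, hlt i⟩ : Fin table.N) := by
    refine Fin.strictMono_iff_lt_succ.2 fun i => ?_
    exact Nat.le_of_ble_eq_true (hinc i (List.mem_range.2 i.2))
  calc 693 = (Finset.univ.image fun i : Fin 693 => (⟨vList.getD i 0, hlt i⟩ : Fin table.N)).card := by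
        rw [Finset.card_image_of_injective _ hinj.injective, Finset.card_univ, Fintype.card_fin]
    _ ≤ _ := Finset.card_le_card fun u hu => by
        obtain ⟨i, -, rfl⟩ := Finset.mem_image.1 hu
        simp only [Finset.mem_filter, Finset.mem_univ, true_and]
        refine inV_fix (inV_of_mask ?_)
        show Nat.testBit vMask (vList.getD i 0) = true
        exact testBit_maskOf_mem _ _ (by
          rw [List.getD_eq_getElem _ _ (by omega)]; exact List.getElem_mem _)

theorem isPair_iff {x : Fi23} :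
    Embedded.IsPair classTr x ↔ ∃ p q, Adj p q ∧ dp p * dp q = x := by
  simp only [Embedded.IsPair, class_eq, Set.mem_range]
  constructor
  · rintro ⟨_, ⟨p, rfl⟩, _, ⟨q, rfl⟩, hne, hc, rfl⟩
    exact ⟨p, q, adj_iff.2 ⟨fun e => hne (e ▸ rfl), hc⟩, rfl⟩
  · rintro ⟨p, q, h, rfl⟩
    exact ⟨_, ⟨p, rfl⟩, _, ⟨q, rfl⟩, fun e => (adj_iff.1 h).1 (dp_injective e), (adj_iff.1 h).2, rfl⟩

theorem cnt_of_pair {x : Fi23} (h : Embedded.IsPair classTr x) : 693 ≤ cnt x ∧ cnt x < 700 := by
  obtain ⟨p, q, hpq, rfl⟩ := isPair_iff.1 h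
  exact ⟨cnt_pair hpq, cnt_pair_lt hpq⟩

theorem cnt_of_mem {x : Fi23} (h : x ∈ classTr) : 3510 ≤ cnt x := by
  rw [class_eq] at h
  obtain ⟨p, rfl⟩ := h
  exact cnt_dp p

/-- Every involution fixes a point. -/
theorem exists_fix {x : Fi23} (h2 : x * x = 1) : ∃ c, hom x c = c := by
  have := finite
  haveI : Fact (Nat.Prime 2) := ⟨Nat.prime_two⟩
  have hcard : Nat.card syl = 2 ^ 18 := Two.card_syl
  have hidx : ¬ 2 ∣ syl.index := by
    have h := syl.card_mul_index
    rw [hcard, card_eq.1] at h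
    have h' : syl.index = 4089470473293004800 / 2 ^ 18 := by
      rw [← h, Nat.mul_div_cancel_left _ (by norm_num)]
    rw [h']
    norm_num
  let P := (IsPGroup.of_card hcard).toSylow hidx
  have hp : IsPGroup 2 (Subgroup.zpowers x) := by
    obtain ⟨k, -, hk⟩ := (Nat.dvd_prime_pow Nat.prime_two).1
      (orderOf_dvd_of_pow_eq_one (x := x) (n := 2 ^ 1) (by rw [pow_one, pow_two, h2]))
    exact IsPGroup.of_card (n := k) (by rw [Nat.card_zpowers, hk])
  obtain ⟨Q, hQ⟩ := hp.exists_le_sylow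
  obtain ⟨g, hg⟩ := MulAction.exists_smul_eq Fi23 Q P
  have h1 : g * x * g⁻¹ ∈ (P : Subgroup Fi23) := by
    rw [← hg]
    exact Subgroup.mem_map.2 ⟨_, hQ (Subgroup.mem_zpowers _), rfl⟩
  refine ⟨hom g⁻¹ c18, ?_⟩
  have h2' : hom (g * x * g⁻¹) c18 = c18 := syl_fix h1
  rw [map_mul, map_mul, Equiv.Perm.mul_apply, Equiv.Perm.mul_apply, ← Equiv.Perm.eq_inv_iff_eq] at h2'
  rw [h2', ← map_inv]

theorem prod_mul_const {a : Fi23} (L : List Fi23) (h : ∀ y ∈ L, Commute y a) :
    (L.map (· * a)).prod = L.prod * a ^ L.length := by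
  induction L with
  | nil => simp
  | cons y L ih =>
    have hc : Commute a L.prod := Commute.list_prod_right _ _ fun z hz => (h z (List.mem_cons_of_mem _ hz)).symm
    rw [List.map_cons, List.prod_cons, List.prod_cons, ih fun z hz => h z (List.mem_cons_of_mem _ hz),
      List.length_cons, pow_succ', mul_assoc y a, ← mul_assoc a, hc.eq]
    simp [mul_assoc]

theorem closure_std : dp fst0 ∈ Subgroup.closure
    {w | ∃ y ∈ classTr, Commute y (dp fst0) ∧ Commute y (dp pt) ∧ y * dp fst0 = w} := by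
  have h := std_ok
  simp only [stdK, Bool.and_eq_true, List.all_eq_true] at h
  obtain ⟨⟨⟨-, hlen⟩, hsix⟩, hprod⟩ := h
  have hlt : ∀ i ∈ sixIx, i < halves.length := fun i hi => Nat.le_of_ble_eq_true (hsix i hi).1
  have hV : ∀ i ∈ sixIx, InV (pp i) := fun i hi =>
    inV_of_mask (by rw [pp_val (hlt i hi)]; exact (hsix i hi).2)
  set Ys := sixIx.reverse.map fun i => dp (pp i) with hYs
  have hP : Ys.prod = dp fst0 := by
    rw [hYs, ← el_flatMap hlt, show dp fst0 = el [0] from (el_gen (by norm_num)).symm]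
    refine eq_of_sameK (flatMap_lt hlt) (by simp) (List.all_eq_true.2 fun p hp => ?_)
    exact hprod p hp
  have hc : ∀ y ∈ Ys, Commute y (dp fst0) ∧ Commute y (dp pt) := by
    intro y hy
    obtain ⟨i, hi, rfl⟩ := List.mem_map.1 hy
    rw [List.mem_reverse] at hi
    exact ⟨(adj_iff.1 (hV i hi).2).2.symm, (adj_iff.1 (hV i hi).1).2.symm⟩
  have hmem : (Ys.map (· * dp fst0)).prod ∈ Subgroup.closure
      {w | ∃ y ∈ classTr, Commute y (dp fst0) ∧ Commute y (dp pt) ∧ y * dp fst0 = w} := by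
    refine list_prod_mem fun w hw => ?_
    obtain ⟨y, hy, rfl⟩ := List.mem_map.1 hw
    refine Subgroup.subset_closure ⟨y, ?_, (hc y hy).1, (hc y hy).2, rfl⟩
    obtain ⟨i, -, rfl⟩ := List.mem_map.1 hy
    exact dp_mem _
  rw [prod_mul_const Ys fun y hy => (hc y hy).1, hP, hYs, List.length_map, List.length_reverse,
    Nat.eq_of_beq_eq_true hlen] at hmem
  rwa [show (6 : ℕ) = 2 * 3 from rfl, pow_mul, pow_two, dp_sq, one_pow, mul_one] at hmem

theorem pair_fix {p q r : Fin table.N} (h : Adj p q) (hr : hom (dp p * dp q) r = r) :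
    hom (dp p) r = r ∧ hom (dp q) r = r := by
  obtain ⟨g, hg, hg'⟩ := trans_pair h
  obtain ⟨k, hk, hk'⟩ := trans_pair (adj_gens (x := 2) (y := 0) (by simp))
  set m := k⁻¹ * g with hm
  have hp : hom m p = gpt 2 := by rw [hm, map_mul, Equiv.Perm.mul_apply, hg, map_inv, ← hk, inv_app]
  have hq : hom m q = gpt 0 := by rw [hm, map_mul, Equiv.Perm.mul_apply, hg', map_inv, ← hk', inv_app]
  have h1 : hom (dp (gpt 2) * dp (gpt 0)) (hom m r) = hom m r := by
    rw [← hp, ← hq, ← conj_dp, ← conj_dp, conj_mul, map_mul, Equiv.Perm.mul_apply, map_inv,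
      inv_app, map_mul, Equiv.Perm.mul_apply, hr]
  have h2 : el [0, 2] = dp (gpt 2) * dp (gpt 0) := by
    rw [show [0, 2] = [0] ++ [2] from rfl, el_append, el_gen (by norm_num), el_gen (by norm_num)]
  have h3 := congrArg Fin.val h1
  rw [← h2, el_img (by decide)] at h3
  have := List.all_eq_true.1 pairScan_ok _ (List.mem_range.2 (show ((hom m r : Fin table.N) : ℕ) < 31671 from
    (hom m r).2))
  rw [Nat.beq_eq.mpr h3, Bool.not_true, Bool.false_or, Bool.and_eq_true] at this
  constructor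
  · rw [← fix_conj m, hp, fix_gen_iff (by norm_num)]
    exact Nat.eq_of_beq_eq_true this.2
  · rw [← fix_conj m, hq, fix_gen_iff (by norm_num)]
    exact Nat.eq_of_beq_eq_true this.1

theorem facts : Embedded.Facts (classTr : Set Fi23) where
  cases x h2 h1 := by
    obtain ⟨c, hc⟩ := exists_fix h2
    obtain ⟨L, hlen, hpw, -, rfl⟩ := invol_form hc h2
    rcases L with _ | ⟨p, _ | ⟨q, _ | ⟨r, _ | ⟨t, L⟩⟩⟩⟩
    · exact absurd rfl h1
    · exact Or.inl (by simpa using dp_mem p)
    · refine Or.inr (Or.inl (isPair_iff.2 ⟨p, q, ?_, by simp⟩))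
      simpa using hpw
    · simp only [List.pairwise_cons, List.mem_cons, List.not_mem_nil, or_false, forall_eq_or_imp,
        forall_eq, List.Pairwise.nil, and_true, IsEmpty.forall_iff, implies_true] at hpw
      obtain ⟨⟨hpq, hpr⟩, hqr⟩ := hpw
      have e : ([p, q, r].map dp).prod = dp p * (dp q * dp r) := by simp
      rw [e]
      refine Or.inr (Or.inr ⟨⟨dp p, dp_mem p, ?_, isPair_iff.2 ⟨q, r, hqr, ?_⟩⟩, ?_⟩)
      · exact (Commute.refl _).mul_right ((adj_iff.1 hpq).2.mul_right (adj_iff.1 hpr).2)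
      · rw [← mul_assoc, dp_sq, one_mul]
      obtain ⟨g, hg, hg', hg''⟩ := trans_triple hpq hpr hqr
      set s := hom g⁻¹ u0 with hs
      have hgs : hom g s = u0 := by rw [hs, map_inv, app_inv]
      have hps : Adj p s := (adj_conj g).1 (by rw [hg, hgs]; exact inV_u0.1)
      have hqs : Adj q s := (adj_conj g).1 (by rw [hg', hgs]; exact inV_u0.2)
      have hrs : Adj r s := (adj_conj g).1 (by rw [hg'', hgs]; exact adj_c0_u0)
      have hcnt : cnt (dp s * (dp p * (dp q * dp r))) < 693 := by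
        have := cnt_quad_lt hps.symm hqs.symm hpq hrs.symm hpr hqr
        simpa [mul_assoc] using this
      refine ⟨dp s, dp_mem s, ?_, fun h => ?_, fun h => ?_⟩
      · exact (adj_iff.1 hps).2.symm.mul_right
          ((adj_iff.1 hqs).2.symm.mul_right (adj_iff.1 hrs).2.symm)
      · exact absurd (cnt_of_pair h).1 (by omega)
      · exact absurd (cnt_of_mem h) (by omega)
    · simp only [List.length_cons] at hlen; omega
  member x h2 _ := by
    obtain ⟨c, hc⟩ := exists_fix h2
    exact ⟨dp c, dp_mem c, ((commute_dp_iff x c).2 hc).symm⟩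
  exists_pair := ⟨_, isPair_iff.2 ⟨pt, fst0, adj_pt_fst, rfl⟩⟩
  pair_not_mem x hx hm := absurd (cnt_of_mem hm) (by have := (cnt_of_pair hx).2; omega)
  pair_factor a ha b hb hne hab x hx hxab hm := by
    rw [class_eq] at ha hb hx
    obtain ⟨p, rfl⟩ := ha
    obtain ⟨q, rfl⟩ := hb
    obtain ⟨r, rfl⟩ := hx
    have hpq : Adj p q := adj_iff.2 ⟨fun e => hne (e ▸ rfl), hab⟩
    by_contra hcon
    rw [not_or] at hcon
    obtain ⟨h1, h2⟩ := pair_fix hpq ((commute_dp_iff _ r).1 hxab.symm)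
    have hrp : Adj r p := (show Adj p r from ⟨fun e => hcon.1 (e ▸ rfl), h1⟩).symm
    have hrq : Adj r q := (show Adj q r from ⟨fun e => hcon.2 (e ▸ rfl), h2⟩).symm
    have hcnt := cnt_triple_lt hrp hrq hpq
    rw [mul_assoc] at hcnt
    exact absurd (cnt_of_mem hm) (by omega)
  pair_closure a ha b hb hne hab := by
    rw [class_eq] at ha hb
    obtain ⟨p, rfl⟩ := ha
    obtain ⟨q, rfl⟩ := hb
    have hpq : Adj p q := adj_iff.2 ⟨fun e => hne (e ▸ rfl), hab⟩
    obtain ⟨g, hgq, hgp⟩ := trans_pair hpq.symm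
    have h1 := Subgroup.mem_map_of_mem (MulAut.conj g⁻¹).toMonoidHom closure_std
    rw [MonoidHom.map_closure] at h1
    have e1 : g⁻¹ * dp fst0 * g⁻¹⁻¹ = dp p := by
      rw [conj_dp, map_inv, ← hgp, inv_app]
    have e2 : g⁻¹ * dp pt * g⁻¹⁻¹ = dp q := by
      rw [conj_dp, map_inv, ← hgq, inv_app]
    have h2 : dp p ∈ Subgroup.closure ((MulAut.conj g⁻¹).toMonoidHom ''
        {w | ∃ y ∈ classTr, Commute y (dp fst0) ∧ Commute y (dp pt) ∧ y * dp fst0 = w}) := e1 ▸ h1
    refine Subgroup.closure_mono ?_ h2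
    rintro _ ⟨w, ⟨y, hy, hy1, hy2, rfl⟩, rfl⟩
    refine ⟨g⁻¹ * y * g⁻¹⁻¹, ?_, ?_, ?_, ?_⟩
    · rw [class_eq] at hy ⊢
      obtain ⟨t, rfl⟩ := hy
      exact ⟨_, (conj_dp _ _).symm⟩
    · rw [← e1]; exact (Commute.conj_iff _).2 hy1
    · rw [← e2]; exact (Commute.conj_iff _).2 hy2
    · rw [← e1, conj_mul]
      rfl

theorem squareK_spec {y L : List ℕ} (h : squareK y L = true) :
    ∃ g : Fi23, hom g pt = pt ∧ g * g = (L.reverse.map fun i => dp (pp i)).prod := by
  simp only [squareK, Bool.and_eq_true, List.all_eq_true] at h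
  obtain ⟨⟨⟨hy, h0⟩, hL⟩, heq⟩ := h
  have hy' : ∀ x ∈ y, x < 10 := fun x hx => Nat.le_of_ble_eq_true (hy x hx)
  have hL' : ∀ i ∈ L, i < halves.length := fun i hi => Nat.le_of_ble_eq_true (hL i hi)
  refine ⟨el y, Fin.ext (by rw [el_img hy']; exact Nat.eq_of_beq_eq_true h0), ?_⟩
  rw [← el_flatMap hL', ← el_append]
  exact eq_of_sameK (fun x hx => (List.mem_append.1 hx).elim (hy' x) (hy' x)) (flatMap_lt hL')
    (List.all_eq_true.2 fun p hp => heq p hp)

theorem square_conj {g z : Fi23} (hg : hom g pt = pt) (h : ∃ y, hom y pt = pt ∧ y * y = g * z * g⁻¹) :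
    ∃ y, hom y pt = pt ∧ y * y = z := by
  obtain ⟨y, hy, hyy⟩ := h
  refine ⟨g⁻¹ * y * g, ?_, ?_⟩
  · rw [map_mul, map_mul, Equiv.Perm.mul_apply, Equiv.Perm.mul_apply, hg, hy, map_inv]
    conv_lhs => rw [← hg, inv_app]
  · rw [show g⁻¹ * y * g * (g⁻¹ * y * g) = g⁻¹ * (y * y) * g by group, hyy]
    group

theorem square_pair {p q : Fin table.N} (hp : Adj pt p) (hq : Adj pt q) (h : Adj p q) :
    ∃ y, hom y pt = pt ∧ y * y = dp p * dp q := by
  obtain ⟨g, hg, hg', hg''⟩ := trans_triple hq hp h.symm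
  refine square_conj hg ?_
  rw [← conj_mul, conj_dp, conj_dp, hg', hg'']
  obtain ⟨y, hy, he⟩ := squareK_spec sqPair_ok
  refine ⟨y, hy, he.trans ?_⟩
  simp [first_spec.2, c0]

theorem square_base {p q : Fin table.N} (hp : Adj pt p) (hq : Adj pt q) (h : Adj p q) :
    ∃ y, hom y pt = pt ∧ y * y = dp pt * (dp p * dp q) := by
  obtain ⟨g, hg, hg', hg''⟩ := trans_triple hq hp h.symm
  refine square_conj hg ?_
  rw [← conj_mul, ← conj_mul, conj_dp, conj_dp, conj_dp, hg, hg', hg'']
  obtain ⟨y, hy, he⟩ := squareK_spec sqBase_ok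
  refine ⟨y, hy, he.trans ?_⟩
  simp [first_spec.2, base_spec.2, c0]

theorem square_triple {p q r : Fin table.N} (hp : Adj pt p) (hq : Adj pt q) (hr : Adj pt r)
    (hpq : Adj p q) (hpr : Adj p r) (hqr : Adj q r) :
    ∃ y, hom y pt = pt ∧ y * y = dp p * (dp q * dp r) := by
  obtain ⟨g, hg, hg', hg'', hg'''⟩ := trans_quad hr hq hqr.symm hp hpr.symm hpq.symm
  refine square_conj hg ?_
  rw [← conj_mul, ← conj_mul, conj_dp, conj_dp, conj_dp, hg', hg'', hg''']
  obtain ⟨y, hy, he⟩ := squareK_spec sqTriple_ok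
  refine ⟨y, hy, he.trans ?_⟩
  simp [first_spec.2, c0, u0]

/-- The involutions fixing the base point. -/
theorem stab_cases {x : Fi23} (hx : hom x pt = pt) (h2 : x * x = 1) (h1 : x ≠ 1) :
    x = tr ∨ (∃ p, Adj pt p ∧ x = dp p) ∨ (∃ p, Adj pt p ∧ x = tr * dp p) ∨
      ∃ y, hom y pt = pt ∧ y * y = x := by
  obtain ⟨L, hlen, hpw, hfix, rfl⟩ := invol_form hx h2
  rw [tr_eq_dp]
  have hadj : ∀ p ∈ L, p ≠ pt → Adj pt p := fun p hp hne => ⟨hne.symm, fix_symm.1 (hfix p hp)⟩
  have comm : ∀ {p q : Fin table.N}, Adj p q → dp p * dp q = dp q * dp p := fun h => (adj_iff.1 h).2.eq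
  rcases L with _ | ⟨p, _ | ⟨q, _ | ⟨r, _ | ⟨t, L⟩⟩⟩⟩
  · exact absurd rfl h1
  · by_cases hp : p = pt
    · exact Or.inl (by simp [hp])
    · exact Or.inr (Or.inl ⟨p, hadj p (by simp) hp, by simp⟩)
  · have hpq : Adj p q := by simpa using hpw
    by_cases hp : p = pt
    · subst hp
      exact Or.inr (Or.inr (Or.inl ⟨q, hpq, by simp⟩))
    by_cases hq : q = pt
    · subst hq
      exact Or.inr (Or.inr (Or.inl ⟨p, hpq.symm, by simp [comm hpq]⟩))
    obtain ⟨y, hy, he⟩ := square_pair (hadj p (by simp) hp) (hadj q (by simp) hq) hpq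
    exact Or.inr (Or.inr (Or.inr ⟨y, hy, he.trans (by simp)⟩))
  · simp only [List.pairwise_cons, List.mem_cons, List.not_mem_nil, or_false, forall_eq_or_imp,
      forall_eq, List.Pairwise.nil, and_true, IsEmpty.forall_iff, implies_true] at hpw
    obtain ⟨⟨hpq, hpr⟩, hqr⟩ := hpw
    refine Or.inr (Or.inr (Or.inr ?_))
    have e : ([p, q, r].map dp).prod = dp p * (dp q * dp r) := by simp
    rw [e]
    by_cases hp : p = pt
    · subst hp
      exact square_base hpq hpr hqr
    by_cases hq : q = pt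
    · subst hq
      rw [show dp p * (dp pt * dp r) = dp pt * (dp p * dp r) by
        rw [← mul_assoc, comm hpq, mul_assoc]]
      exact square_base hpq.symm hqr hpr
    by_cases hr : r = pt
    · subst hr
      rw [show dp p * (dp q * dp pt) = dp pt * (dp p * dp q) by
        rw [comm hqr, ← mul_assoc, comm hpr, mul_assoc]]
      exact square_base hpr.symm hqr.symm hpq
    exact square_triple (hadj p (by simp) hp) (hadj q (by simp) hq) (hadj r (by simp) hr) hpq hpr hqr
  · simp only [List.length_cons] at hlen; omega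

end CfsgLib.Sporadic.Fi23Centralizer
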