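import Cfsg.Agent.Lib.Sporadic.FiTransfer23.NearModel
import Cfsg.Agent.Lib.Sporadic.Fi23SylowTwo.Main
import Cfsg.Agent.Lib.Sporadic.Fi23Centralizer.CheckSmall
import Cfsg.Agent.Lib.Sporadic.Fi23Centralizer.CheckScan

/-!
Points, their transpositions and the certificates read as statements about them.
-/

set_option autoImplicit false
set_option maxRecDepth 100000

open Cfsg.Spor

namespace CfsgLib.Sporadic.Fi23Centralizer

open CosetCert CosetCert.Fi23P
open Fi23Data (table forestH)
open Two (el el_img el_append el_nil el_single el_reverse dp conj_dp comm_of_fix gen_eq_dp gpt gpt_val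
  genPts eq_of_sameK sameK)
open OutFi (dp_injective dp_sq fullWord fullWord_lt dp_of_half cls_zero)
open FiTransfer23.Near (commute_dp_iff)

attribute [local irreducible] PTab.img Forest.cls

/-- The first generator as a point. -/
noncomputable def fst0 : Fin table.N := gpt 0

theorem fst0_val : (fst0 : ℕ) = 11589 := gpt_val (by norm_num)

/-- The point of an index. -/
noncomputable def pp (i : ℕ) : Fin table.N := if h : hp i < table.N then ⟨hp i, h⟩ else pt

/-- Two different points with commuting transpositions. -/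
def Adj (p q : Fin table.N) : Prop := p ≠ q ∧ hom (dp p) q = q

theorem adj_iff {p q : Fin table.N} : Adj p q ↔ p ≠ q ∧ Commute (dp p) (dp q) := by
  rw [Adj, commute_dp_iff]

theorem Adj.symm {p q : Fin table.N} (h : Adj p q) : Adj q p := by
  rw [adj_iff] at h ⊢
  exact ⟨h.1.symm, h.2.symm⟩

theorem fix_symm {p q : Fin table.N} : hom (dp p) q = q ↔ hom (dp q) p = p := by
  rw [← commute_dp_iff, ← commute_dp_iff]
  exact ⟨Commute.symm, Commute.symm⟩

theorem fix_self (p : Fin table.N) : hom (dp p) p = p := (commute_dp_iff _ _).1 (Commute.refl _)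

theorem hom_inj (g : Fi23) {p q : Fin table.N} (h : hom g p = hom g q) : p = q := (hom g).injective h

theorem inv_app {α : Type*} (f : Equiv.Perm α) (x : α) : f⁻¹ (f x) = x := by
  rw [Equiv.Perm.inv_def, Equiv.symm_apply_apply]

theorem app_inv {α : Type*} (f : Equiv.Perm α) (x : α) : f (f⁻¹ x) = x := by
  rw [Equiv.Perm.inv_def, Equiv.apply_symm_apply]

theorem fix_conj (g : Fi23) (p q : Fin table.N) :
    hom (dp (hom g p)) (hom g q) = hom g q ↔ hom (dp p) q = q := by
  rw [← conj_dp, map_mul, map_mul, Equiv.Perm.mul_apply, Equiv.Perm.mul_apply, map_inv,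
    inv_app, EmbeddingLike.apply_eq_iff_eq]

theorem adj_conj (g : Fi23) {p q : Fin table.N} : Adj (hom g p) (hom g q) ↔ Adj p q := by
  rw [Adj, Adj, fix_conj, ne_eq, EmbeddingLike.apply_eq_iff_eq]

theorem cls_pt : forestH.cls (pt : ℕ) = 0 := by
  show forestH.cls 0 = 0
  decide +kernel

theorem cls_one_iff (u : Fin table.N) : forestH.cls u = 1 ↔ Adj pt u := by
  rw [adj_iff]
  constructor
  · intro h
    refine ⟨fun e => ?_, ?_⟩
    · rw [← e, cls_pt] at h
      exact absurd h (by norm_num)
    · rw [← ThreeTransp.TypeTwentyFour.Model.tr_eq_dp]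
      exact (ThreeTransp.TypeTwentyFour.Model.commute_tr_iff u).2 (Or.inr h)
  · rintro ⟨hne, hc⟩
    rw [← ThreeTransp.TypeTwentyFour.Model.tr_eq_dp] at hc
    exact ((ThreeTransp.TypeTwentyFour.Model.commute_tr_iff u).1 hc).resolve_left (Ne.symm hne)

theorem img_gen {x : ℕ} (hx : x < 10) (u : Fin table.N) :
    ((hom (dp (gpt x)) u : Fin table.N) : ℕ) = table.img x u := by
  rw [← gen_eq_dp x hx, ← el_single, el_img (by simpa using hx)]
  rfl

theorem fix_gen_iff {x : ℕ} (hx : x < 10) (u : Fin table.N) :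
    hom (dp (gpt x)) u = u ↔ table.img x u = u := by rw [← img_gen hx u, Fin.val_inj]

theorem half_spec {i : ℕ} (hi : i < halves.length) :
    hp i < table.N ∧ OutFi.halfK (hp i) (halves.getD i (31671, [], 0)).2 = true := by
  have h := List.all_eq_true.1 halves_ok i (List.mem_range.2 hi)
  rw [Bool.and_eq_true] at h
  exact ⟨Nat.le_of_ble_eq_true h.1, h.2⟩

theorem pp_val {i : ℕ} (hi : i < halves.length) : (pp i : ℕ) = hp i := by
  rw [pp, dif_pos (half_spec hi).1]

theorem hw_lt {i : ℕ} (hi : i < halves.length) : ∀ x ∈ hw i, x < 10 := fullWord_lt (half_spec hi).2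

theorem dp_pp {i : ℕ} (hi : i < halves.length) : dp (pp i) = el (hw i) :=
  dp_of_half (p := pp i) (by rw [pp_val hi]; exact (half_spec hi).2)

theorem img_pp {i : ℕ} (hi : i < halves.length) (u : Fin table.N) :
    ((hom (dp (pp i)) u : Fin table.N) : ℕ) = table.imgW (hw i) u := by
  rw [dp_pp hi, el_img (hw_lt hi)]

theorem fix_pp_iff {i : ℕ} (hi : i < halves.length) (u : Fin table.N) :
    hom (dp (pp i)) u = u ↔ table.imgW (hw i) u = u := by rw [← img_pp hi u, Fin.val_inj]

theorem fixesK_iff {i j : ℕ} (hi : i < halves.length) (hj : j < halves.length) :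
    fixesK i j = true ↔ hom (dp (pp i)) (pp j) = pp j := by
  rw [fix_pp_iff hi, pp_val hj, fixesK]
  exact Nat.beq_eq.to_iff

theorem flatMap_lt {L : List ℕ} (hL : ∀ i ∈ L, i < halves.length) : ∀ x ∈ L.flatMap hw, x < 10 := by
  intro x hx
  obtain ⟨i, hi, hx⟩ := List.mem_flatMap.1 hx
  exact hw_lt (hL i hi) x hx

theorem el_flatMap {L : List ℕ} (hL : ∀ i ∈ L, i < halves.length) :
    el (L.flatMap hw) = (L.reverse.map fun i => dp (pp i)).prod := by
  induction L with
  | nil => rfl
  | cons i L ih =>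
    rw [List.flatMap_cons, el_append, ih fun j hj => hL j (List.mem_cons_of_mem _ hj),
      ← dp_pp (hL i List.mem_cons_self), List.reverse_cons, List.map_append, List.prod_append]
    simp

theorem testBit_maskOf (L : List ℕ) (v : ℕ) : Nat.testBit (maskOf L) v = true → v ∈ L := by
  intro h
  induction L with
  | nil => simp [maskOf] at h
  | cons u L ih =>
    change Nat.testBit (Nat.shiftLeft 1 u ||| maskOf L) v = true at h
    rw [Nat.testBit_lor, Bool.or_eq_true, Nat.shiftLeft_eq', Nat.one_shiftLeft, Nat.testBit_two_pow,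
      decide_eq_true_eq] at h
    rcases h with rfl | h
    exacts [List.mem_cons_self, List.mem_cons_of_mem _ (ih h)]

theorem testBit_maskOf_mem (L : List ℕ) (v : ℕ) (h : v ∈ L) : Nat.testBit (maskOf L) v = true := by
  induction L with
  | nil => simp at h
  | cons u L ih =>
    change Nat.testBit (Nat.shiftLeft 1 u ||| maskOf L) v = true
    rw [Nat.testBit_lor, Bool.or_eq_true, Nat.shiftLeft_eq', Nat.one_shiftLeft, Nat.testBit_two_pow,
      decide_eq_true_eq]
    rcases List.mem_cons.1 h with rfl | h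
    exacts [Or.inl rfl, Or.inr (ih h)]

theorem stepsK_spec {f : ℕ → ℕ → ℕ} {n : ℕ} (Q : ℕ → Prop)
    (hQ : ∀ i < n, ∀ v, Q v → Q (f i v)) :
    ∀ (L : List (ℕ × ℕ × ℕ)) (m : ℕ), (∀ v, Nat.testBit m v = true → Q v) → stepsK f n L m = true →
      ∀ e ∈ L, Q e.1 := by
  intro L
  induction L with
  | nil => intro m _ _ e he; simp at he
  | cons a L ih =>
    intro m hm h e he
    change (Nat.blt a.2.1 n && Nat.testBit m a.2.2 && Nat.beq (f a.2.1 a.2.2) a.1 &&
      stepsK f n L (Nat.lor (Nat.shiftLeft 1 a.1) m)) = true at h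
    simp only [Bool.and_eq_true] at h
    obtain ⟨⟨⟨h1, h2⟩, h3⟩, h4⟩ := h
    have ha : Q a.1 := Nat.eq_of_beq_eq_true h3 ▸ hQ _ (Nat.le_of_ble_eq_true h1) _ (hm _ h2)
    rcases List.mem_cons.1 he with rfl | he
    · exact ha
    · refine ih _ (fun v hv => ?_) h4 e he
      change Nat.testBit (Nat.shiftLeft 1 a.1 ||| m) v = true at hv
      rw [Nat.testBit_lor, Bool.or_eq_true, Nat.shiftLeft_eq', Nat.one_shiftLeft, Nat.testBit_two_pow,
        decide_eq_true_eq] at hv
      rcases hv with rfl | hv
      exacts [ha, hm v hv]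

/-- Commuting with the base transposition and with the first generator. -/
def InV (u : Fin table.N) : Prop := Adj pt u ∧ Adj fst0 u

theorem inV_of_mask {u : Fin table.N} (h : Nat.testBit vMask u = true) : InV u := by
  have hK := vList_ok
  simp only [vListK, Bool.and_eq_true] at hK
  have := List.all_eq_true.1 hK.2 _ (testBit_maskOf _ _ h)
  simp only [Bool.and_eq_true, Bool.not_eq_true'] at this
  obtain ⟨⟨⟨-, h1⟩, h2⟩, h3⟩ := this
  refine ⟨(cls_one_iff u).1 (Nat.eq_of_beq_eq_true h1), fun e => ?_, ?_⟩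
  · rw [← e, fst0_val] at h3
    exact absurd h3 (by decide)
  · exact (fix_gen_iff (by norm_num) u).2 (Nat.eq_of_beq_eq_true h2)

theorem mask_of_inV {u : Fin table.N} (h : InV u) : Nat.testBit vMask u = true := by
  have h1 : table.img 0 u = u := (fix_gen_iff (by norm_num) u).1 h.2.2
  have h2 := (cls_one_iff u).2 h.1
  have key : ∀ s n, vScanK s n = true → s ≤ (u : ℕ) → (u : ℕ) < s + n → Nat.testBit vMask u = true := by
    intro s n hK hs hn
    have := List.all_eq_true.1 hK ((u : ℕ) - s) (List.mem_range.2 (by omega))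
    rw [show Nat.add s ((u : ℕ) - s) = (u : ℕ) from Nat.add_sub_cancel' hs, h1, h2,
      Nat.beq_refl, Nat.beq_refl] at this
    simp only [Bool.not_true, Bool.false_or, Bool.or_eq_true] at this
    refine this.resolve_right fun e => h.2.1 (Fin.ext ?_)
    rw [fst0_val]
    exact (Nat.eq_of_beq_eq_true e).symm
  have hN : table.N = 31671 := rfl
  rcases lt_or_ge (u : ℕ) 16000 with hu | hu
  · exact key 0 16000 vScan0_ok (Nat.zero_le _) (by omega)
  · exact key 16000 15671 vScan1_ok hu (by have := u.2; omega)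

end CfsgLib.Sporadic.Fi23Centralizer
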