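import Cfsg.Agent.Lib.Schur.FiTwentyTwo.Main
import Cfsg.Agent.Lib.Sporadic.Fi22Out.Sym
import Cfsg.Agent.Lib.Sporadic.Fi23Centralizer.Points
import Cfsg.Agent.Lib.Sporadic.Fi23Centralizer.CheckWords

/-!
The double cover of Fi22 is unique, and its symmetry multiplies the standard members by the centre.
-/

set_option autoImplicit false
set_option maxRecDepth 100000

open Cfsg.Spor

namespace CfsgLib.Sporadic.Fi23Centralizer

open CosetCert CosetCert.Fi23P CfsgLib.Schur
open Two (el el_append el_nil el_single dp gpt gen_eq_dp eq_of_sameK genPts el_img)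
open scoped commutatorElement

attribute [local irreducible] PTab.img Forest.cls

universe u

/-- Perfect central double covers of Fi22 agree. -/
theorem cover_unique {C : Type u} [Group C] [Finite C] (hC : commutator C = ⊤) (π : C →* Fi22)
    (hs : Function.Surjective π) (hc : π.ker ≤ Subgroup.center C) (h2 : Nat.card π.ker = 2) :
    ∃ φ : C ≃* sub lH, ∀ c, toFi22 (φ c) = π c := by
  have := CosetCert.Fi23P.finite
  have := FiP.finite
  have := FiP.isSimple
  have hH : commutator ↥(sub lH) = ⊤ :=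
    Group.isPerfect_def.1 ThreeTransp.TypeTwentyFour.Model.sub_quasisimple.1.1
  set P := StemFiber.fib π toFi22
  have hfs : Function.Surjective ((MonoidHom.fst C (sub lH)).comp P.subtype) := fun x => by
    obtain ⟨y, hy⟩ := toFi22_surjective (π x)
    exact ⟨⟨(x, y), hy.symm⟩, rfl⟩
  have hss : Function.Surjective ((MonoidHom.snd C (sub lH)).comp P.subtype) := fun y => by
    obtain ⟨x, hx⟩ := hs (toFi22 y)
    exact ⟨⟨(x, y), hx⟩, rfl⟩
  set R := commutator ↥P with hR
  have hf : Function.Surjective (((MonoidHom.fst C (sub lH)).comp P.subtype).comp R.subtype) := by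
    intro x
    have : x ∈ R.map ((MonoidHom.fst C (sub lH)).comp P.subtype) := by
      rw [hR, commutator_def, Subgroup.map_commutator, Subgroup.map_top_of_surjective _ hfs,
        ← commutator_def, hC]
      exact Subgroup.mem_top x
    obtain ⟨r, hr, rfl⟩ := this
    exact ⟨⟨r, hr⟩, rfl⟩
  have hg : Function.Surjective (((MonoidHom.snd C (sub lH)).comp P.subtype).comp R.subtype) := by
    intro x
    have : x ∈ R.map ((MonoidHom.snd C (sub lH)).comp P.subtype) := by
      rw [hR, commutator_def, Subgroup.map_commutator, Subgroup.map_top_of_surjective _ hss,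
        ← commutator_def, hH]
      exact Subgroup.mem_top x
    obtain ⟨r, hr, rfl⟩ := this
    exact ⟨⟨r, hr⟩, rfl⟩
  set ξ := (StemFiber.proj π toFi22).comp R.subtype with hξ
  have hξs : Function.Surjective ξ := fun q => by
    obtain ⟨x, rfl⟩ := hs q
    obtain ⟨r, rfl⟩ := hf x
    exact ⟨r, rfl⟩
  have hcen : (StemFiber.proj π toFi22).ker ≤ Subgroup.center ↥P := by
    intro z hz
    obtain ⟨h1, h2'⟩ := StemFiber.mem_ker.1 hz
    rw [Subgroup.mem_center_iff]
    exact fun g => Subtype.ext (Prod.ext (Subgroup.mem_center_iff.1 (hc h1) g.1.1)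
      (Subgroup.mem_center_iff.1 (center_eq ▸ h2' : z.1.2 ∈ Subgroup.center (sub lH)) g.1.2))
  have hperf : commutator ↥R = ⊤ := by
    have hle : R ≤ (commutator ↥R).map R.subtype := by
      refine (show R = ⁅(⊤ : Subgroup ↥P), ⊤⁆ by rw [hR, commutator_def]).le.trans
        (Subgroup.commutator_le.2 ?_)
      intro p _ q _
      obtain ⟨r, hr⟩ := hξs (StemFiber.proj π toFi22 p)
      obtain ⟨s, hs'⟩ := hξs (StemFiber.proj π toFi22 q)
      have key : ∀ (x : ↥P) (y : ↥R), ξ y = StemFiber.proj π toFi22 x →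
          ∃ z ∈ Subgroup.center ↥P, x = (y : ↥P) * z := fun x y hxy =>
        ⟨(y : ↥P)⁻¹ * x, hcen (by
          rw [MonoidHom.mem_ker, map_mul, map_inv]
          exact inv_mul_eq_one.2 hxy), by rw [mul_inv_cancel_left]⟩
      obtain ⟨z, hz, rfl⟩ := key p r hr
      obtain ⟨w, hw, rfl⟩ := key q s hs'
      refine ⟨⁅r, s⁆, Subgroup.commutator_mem_commutator (Subgroup.mem_top r) (Subgroup.mem_top s), ?_⟩
      rw [map_commutatorElement]
      rw [Subgroup.mem_center_iff] at hz hw
      show (r : ↥P) * s * (r : ↥P)⁻¹ * (s : ↥P)⁻¹ = _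
      rw [commutatorElement_def, mul_inv_rev, mul_inv_rev]
      calc (r : ↥P) * s * (r : ↥P)⁻¹ * (s : ↥P)⁻¹
          = r * (s * w) * (r : ↥P)⁻¹ * (w⁻¹ * (s : ↥P)⁻¹) := by
            rw [← mul_assoc (r : ↥P), mul_assoc ((r : ↥P) * s) w, ← hw]
            simp [mul_assoc]
        _ = r * z * (s * w) * (z⁻¹ * (r : ↥P)⁻¹) * (w⁻¹ * (s : ↥P)⁻¹) := by
            rw [mul_assoc (r : ↥P) z, ← hz]
            simp [mul_assoc]
    refine eq_top_iff.2 fun r _ => ?_
    obtain ⟨r', hr', e⟩ := hle r.2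
    exact Subtype.ext e ▸ hr'
  have hstem : Cfsg.IsStemExtension ξ := ⟨hξs, fun z hz => by
    rw [Subgroup.mem_center_iff]
    exact fun g => Subtype.ext (Subgroup.mem_center_iff.1 (hcen hz) g), hperf ▸ le_top⟩
  have hcyc : IsCyclic ξ.ker := by
    obtain ⟨p, hp⟩ := Basic.exists_surjective_ker _ (Basic.canon_surjective Fi22) ξ hstem
    obtain ⟨e⟩ := Basic.mult_equiv Schur.Sporadic.FiTwentyTwo.hasMultiplier
    haveI := isCyclic_of_surjective e.symm.toMonoidHom e.symm.surjective
    exact isCyclic_of_surjective p hp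
  have hcard : Nat.card ξ.ker ≤ 2 := by
    rw [← IsCyclic.exponent_eq_card]
    refine Nat.le_of_dvd two_pos (Monoid.exponent_dvd_of_forall_pow_eq_one fun z => ?_)
    obtain ⟨h1, h2'⟩ := StemFiber.mem_ker.1 (show ((z : ↥R) : ↥P) ∈ (StemFiber.proj π toFi22).ker from z.2)
    refine Subtype.ext (Subtype.ext (Subtype.ext (Prod.ext ?_ ?_)))
    · have := pow_card_eq_one' (G := π.ker) (x := ⟨_, h1⟩)
      rw [h2] at this
      exact congrArg Subtype.val this
    · have := pow_card_eq_one' (G := toFi22.ker) (x := ⟨_, h2'⟩)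
      rw [card_ker_toFi22] at this
      exact congrArg Subtype.val this
  have hR' : Nat.card R ≤ 2 * Nat.card Fi22 := by
    rw [← ξ.ker.card_mul_index, Subgroup.index_ker, MonoidHom.range_eq_top.2 hξs, Subgroup.card_top]
    exact Nat.mul_le_mul_right _ hcard
  have hCc : Nat.card C = 2 * Nat.card Fi22 := by
    rw [← π.ker.card_mul_index, h2, Subgroup.index_ker, MonoidHom.range_eq_top.2 hs, Subgroup.card_top]
  have hHc : Nat.card (sub lH) = 2 * Nat.card Fi22 := by
    rw [← toFi22.ker.card_mul_index, card_ker_toFi22, Subgroup.index_ker,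
      MonoidHom.range_eq_top.2 toFi22_surjective, Subgroup.card_top]
  let f₁ := MulEquiv.ofBijective _ ((Nat.bijective_iff_surjective_and_card _).2
    ⟨hf, le_antisymm (hR'.trans hCc.ge) (Nat.card_le_card_of_surjective _ hf)⟩)
  let f₂ := MulEquiv.ofBijective _ ((Nat.bijective_iff_surjective_and_card _).2
    ⟨hg, le_antisymm (hR'.trans hHc.ge) (Nat.card_le_card_of_surjective _ hg)⟩)
  refine ⟨f₁.symm.trans f₂, fun c => ?_⟩
  obtain ⟨r, rfl⟩ := f₁.surjective c
  rw [MulEquiv.trans_apply, MulEquiv.symm_apply_apply]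
  exact (r : ↥P).2.symm

/-- The central involution of the subgroup. -/
noncomputable def trH : sub lH := ⟨tr, tr_mem⟩

theorem trH_ne : trH ≠ 1 := fun e => tr_ne_one (congrArg Subtype.val e)

theorem ker_cases {z : sub lH} (hz : toFi22 z = 1) : z = 1 ∨ z = trH := by
  by_contra h
  rw [not_or] at h
  obtain ⟨a, -, hau⟩ := (Nat.card_eq_two_iff' (1 : toFi22.ker)).1 card_ker_toFi22
  exact h.2 (congrArg Subtype.val ((hau ⟨z, hz⟩ fun e => h.1 (congrArg Subtype.val e)).trans
    (hau ⟨trH, tr_mem_ker⟩ fun e => trH_ne (congrArg Subtype.val e)).symm))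

theorem gen_of (a : Fi23.Gen) : coding.gen (code a) = PresentedGroup.of a := coding.gen_code a

/-- A generator in the subgroup. -/
noncomputable def gH (y : Fi22.Gen) : sub lH :=
  ⟨coding.gen (code (incl y)), Subgroup.subset_closure ⟨_, code_incl y, rfl⟩⟩

theorem toFi22_gH (y : Fi22.Gen) : toFi22 (gH y) = PresentedGroup.of y := by
  apply ρ_injective
  rw [show ρ (PresentedGroup.of y) = restrict (gP y) from PresentedGroup.toGroup.of restrict_rel]
  unfold toFi22
  simp only [MonoidHom.comp_apply, MulEquiv.coe_toMonoidHom]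
  erw [MonoidHom.apply_ofInjective_symm]
  show restrict _ = restrict (gP y)
  congr 1
  exact Subtype.ext (congrArg hom (coding.gen_code (incl y)))

theorem gH_sq (y : Fi22.Gen) : gH y * gH y = 1 := Subtype.ext (by
  show coding.gen (code (incl y)) * coding.gen (code (incl y)) = 1
  rw [gen_eq_dp _ (by cases y <;> decide), OutFi.dp_sq])

theorem gH_edge : ∀ e ∈ Fi22.edges, (gH e.1 * gH e.2.2) ^ 3 = 1 := by
  intro e he
  refine Subtype.ext ?_
  rw [Subgroup.coe_pow, Subgroup.coe_mul]
  show (coding.gen (code (incl e.1)) * coding.gen (code (incl e.2.2))) ^ 3 = 1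
  rw [gen_of, gen_of]
  have hl : coxLabel Fi23.edges (incl e.1) (incl e.2.2) = 3 := by revert e; decide
  show PresentedGroup.mk _ ((FreeGroup.of (incl e.1) * FreeGroup.of (incl e.2.2)) ^ 3) = 1
  exact PresentedGroup.one_of_mem (Or.inl ⟨_, mem_nodes _, _, mem_nodes _, by rw [hl]⟩)

theorem rel_abc : (gH .a * gH .b * gH .c * gH .d * gH .e * gH .f * gH .h) ^ 9 = 1 := by
  refine Subtype.ext ?_
  simp only [Subgroup.coe_pow, Subgroup.coe_mul, gH, gen_of]
  show PresentedGroup.mk _ ((Fi23.a * Fi23.b * Fi23.c * Fi23.d * Fi23.e * Fi23.f * Fi23.h) ^ 9) = 1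
  exact PresentedGroup.one_of_mem (Or.inr (List.mem_cons_of_mem _ List.mem_cons_self))

theorem rel_sym_ne : (gH .g * gH .f * gH .e * gH .d * gH .c * gH .b * gH .h) ^ 9 ≠ 1 := by
  intro h
  have h1 : el diagSym = 1 := by
    have hpow : ∀ (w : List ℕ) (m : ℕ), el (List.replicate m w).flatten = el w ^ m := by
      intro w m
      induction m with
      | zero => rw [List.replicate_zero, List.flatten_nil, el_nil, pow_zero]
      | succ m ih => rw [List.replicate_succ, List.flatten_cons, el_append, ih, pow_succ]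
    have := congrArg Subtype.val h
    simp only [Subgroup.coe_pow, Subgroup.coe_mul, gH, Subgroup.coe_one] at this
    rw [diagSym, hpow, show [8, 1, 2, 3, 4, 5, 6] = [8] ++ ([1] ++ ([2] ++ ([3] ++ ([4] ++ ([5] ++ [6]))))) from rfl]
    simp only [el_append, el_single]
    exact this
  have h2 : Fi23P.Two.sameK diagSym [] = true := by
    refine List.all_eq_true.2 fun p hp => Nat.beq_eq.mpr ?_
    have hlt : ∀ x ∈ diagSym, x < 10 := by decide
    have hp' : p < Fi23Data.table.N := by
      have : ∀ q ∈ genPts, q < 31671 := by decide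
      exact this p hp
    have := el_img hlt ⟨p, hp'⟩
    rw [h1, map_one] at this
    exact this.symm
  rw [diagSym_ne] at h2
  exact Bool.noConfusion h2

theorem swap_braid : ∀ e ∈ Fi22.edges,
    (gH (FiP.OutFi22.swapGen e.1) * gH (FiP.OutFi22.swapGen e.2.2)) ^ 3 = 1 := by
  intro e he
  have hsym : ∀ x y : Fi22.Gen, (gH x * gH y) ^ 3 = 1 → (gH y * gH x) ^ 3 = 1 := fun x y h => by
    have : (gH y * gH x)⁻¹ = gH x * gH y := by
      rw [mul_inv_rev, inv_eq_of_mul_eq_one_right (gH_sq x), inv_eq_of_mul_eq_one_right (gH_sq y)]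
    rw [← inv_eq_one, ← inv_pow, this, h]
  simp only [Fi22.edges, List.mem_cons, List.not_mem_nil, or_false] at he
  have mem : ∀ e ∈ Fi22.edges, (gH e.1 * gH e.2.2) ^ 3 = 1 := gH_edge
  simp only [Fi22.edges, List.forall_mem_cons] at mem
  obtain ⟨hab, hbc, hcd, hde, hdh, hef, hfg, hhi, -⟩ := mem
  rcases he with rfl | rfl | rfl | rfl | rfl | rfl | rfl | rfl
  exacts [hsym _ _ hfg, hsym _ _ hef, hsym _ _ hde, hsym _ _ hcd, hdh, hsym _ _ hbc, hsym _ _ hab, hhi]

/-- The symmetry lifts, multiplying the first generator by the centre. -/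
theorem exists_twist : ∃ θ : sub lH ≃* sub lH, θ trH = trH ∧ θ (gH .a) = trH * gH .g := by
  have := CosetCert.Fi23P.finite
  obtain ⟨θ, hθ⟩ := cover_unique (Group.isPerfect_def.1 ThreeTransp.TypeTwentyFour.Model.sub_quasisimple.1.1)
    (FiP.OutFi22.sym.toMonoidHom.comp toFi22) (FiP.OutFi22.sym.surjective.comp toFi22_surjective)
    (by
      rw [center_eq]
      intro z hz
      rw [MonoidHom.mem_ker, MonoidHom.comp_apply, MulEquiv.coe_toMonoidHom, MulEquiv.map_eq_one_iff] at hz
      exact hz)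
    (by
      rw [show (FiP.OutFi22.sym.toMonoidHom.comp toFi22).ker = toFi22.ker from by
        ext z
        rw [MonoidHom.mem_ker, MonoidHom.mem_ker, MonoidHom.comp_apply, MulEquiv.coe_toMonoidHom,
          MulEquiv.map_eq_one_iff]]
      exact card_ker_toFi22)
  have htr : θ trH = trH := by
    refine (ker_cases ?_).resolve_left fun e => trH_ne (θ.map_eq_one_iff.1 e)
    rw [hθ]
    exact (congrArg _ (show toFi22 trH = 1 from tr_mem_ker)).trans (map_one _)
  refine ⟨θ, htr, ?_⟩
  have hz : ∀ y, ∃ z, (z = 1 ∨ z = trH) ∧ θ (gH y) = z * gH (FiP.OutFi22.swapGen y) := fun y => by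
    refine ⟨θ (gH y) * (gH (FiP.OutFi22.swapGen y))⁻¹, ker_cases ?_, by rw [inv_mul_cancel_right]⟩
    rw [map_mul, map_inv, hθ, toFi22_gH]
    show FiP.OutFi22.sym (toFi22 (gH y)) * _ = 1
    rw [toFi22_gH]
    show FiP.OutFi22.symHom (PresentedGroup.of y) * _ = 1
    rw [FiP.OutFi22.symHom_of, mul_inv_cancel]
  choose z hz hzy using hz
  have hcomm : ∀ x (w : sub lH), Commute (z x) w := fun x w => by
    rcases hz x with e | e
    · rw [e]; exact Commute.one_left w
    · rw [e]; exact Subtype.ext (tr_comm w.2).symm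
  have hsq : ∀ x, z x * z x = 1 := fun x => by
    rcases hz x with e | e
    · rw [e, one_mul]
    · rw [e]; exact Subtype.ext tr_mul_self
  have hedge : ∀ e ∈ Fi22.edges, z e.1 = z e.2.2 := by
    intro e he
    have h3 := congrArg θ (gH_edge e he)
    have hmul : z e.1 * gH (FiP.OutFi22.swapGen e.1) * (z e.2.2 * gH (FiP.OutFi22.swapGen e.2.2)) =
        (z e.1 * z e.2.2) * (gH (FiP.OutFi22.swapGen e.1) * gH (FiP.OutFi22.swapGen e.2.2)) := by
      rw [mul_assoc (z e.1), ← mul_assoc (gH _) (z e.2.2), ← (hcomm e.2.2 _).eq]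
      simp [mul_assoc]
    have hc : Commute (z e.1 * z e.2.2) (gH (FiP.OutFi22.swapGen e.1) * gH (FiP.OutFi22.swapGen e.2.2)) :=
      (hcomm _ _).mul_left (hcomm _ _)
    rw [map_one, map_pow, map_mul, hzy, hzy, hmul, hc.mul_pow, swap_braid e he, mul_one] at h3
    have hu : (z e.1 * z e.2.2) * (z e.1 * z e.2.2) = 1 := by
      rw [mul_assoc, ← mul_assoc (z e.2.2), ← (hcomm e.1 (z e.2.2)).eq, mul_assoc (z e.1) (z e.2.2),
        hsq, mul_one, hsq]
    rw [pow_succ, pow_two, hu, one_mul, mul_eq_one_iff_eq_inv, inv_eq_of_mul_eq_one_right (hsq _)] at h3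
    exact h3
  simp only [Fi22.edges, List.forall_mem_cons] at hedge
  obtain ⟨hab, hbc, hcd, hde, hdh, hef, hfg, hhi, -⟩ := hedge
  rcases hz .a with ha | ha
  · exfalso
    refine rel_sym_ne ?_
    have h9 := congrArg θ rel_abc
    simp only [map_one, map_pow, map_mul, hzy, ← hdh, ← hef, ← hde, ← hcd, ← hbc, ← hab, ha, one_mul] at h9
    exact h9
  · rw [hzy, ha]
    rfl

end CfsgLib.Sporadic.Fi23Centralizer
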