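import Cfsg.Agent.Lib.Sporadic.Fi23Centralizer.Data
import Cfsg.Agent.Lib.Sporadic.Fi23Centralizer.SylData
import Cfsg.Agent.Lib.Sporadic.Fi23SylowTwo.Defs
import Cfsg.Agent.Lib.Sporadic.Fi23Out.Defs

/-!
# The checks for the characterisation of Fi23 by the centraliser of a transposition
-/

set_option autoImplicit false

namespace CfsgLib.Sporadic.Fi23Centralizer

open CosetCert
open CosetCert.Fi23Data (table forestH)
open CosetCert.Fi23P.Two (genPts coords actV mulAt permAt upWord vecWord invList)
open CosetCert.Fi23P.OutFi (halfK fullWord)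

/-- The point of an index. -/
def hp (i : ℕ) : ℕ := (halves.getD i (31671, [], 0)).1

/-- The word of the transposition of the point of an index. -/
def hw (i : ℕ) : List ℕ := fullWord (halves.getD i (31671, [], 0)).2

/-- The half words are valid. -/
noncomputable def halvesK : Bool :=
  (List.range halves.length).all fun i => Nat.blt (hp i) 31671 && halfK (hp i) (halves.getD i (31671, [], 0)).2

/-- An index is valid and its point is fixed by the given index. -/
noncomputable def fixesK (i j : ℕ) : Bool := Nat.beq (table.imgW (hw i) (hp j)) (hp j)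

/-- A list of indices of distinct points with commuting transpositions. -/
noncomputable def cliqueK (L : List ℕ) : Bool :=
  L.all (fun i => Nat.blt i halves.length) &&
    (List.range L.length).all fun s => (List.range s).all fun t =>
      !(Nat.beq (hp (L.getD t 0)) (hp (L.getD s 0))) && fixesK (L.getD t 0) (L.getD s 0)

/-- A root: a normal form equal to a product of at most three transpositions fixing the central one. -/
noncomputable def rootK (a : ℕ) (r : ℕ × List ℕ) : Bool :=
  Nat.blt r.1 2048 && Nat.ble r.2.length 3 && cliqueK r.2 &&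
    r.2.all (fun i => Nat.beq (table.imgW (hw i) 3406) 3406) &&
    genPts.all fun p =>
      Nat.beq (table.imgW (r.2.flatMap hw) p) (table.imgW (upWord a ++ vecWord r.1) p)

/-- A row: the square, the coboundary, every solution reaches a root. -/
noncomputable def rowK (R : SylRow) : Bool :=
  Nat.blt R.a 128 && Nat.blt R.c 2048 &&
    genPts.all (fun p => Nat.beq (table.imgW (upWord R.a ++ upWord R.a) p) (table.imgW (upWord 0 ++ vecWord R.c) p)) &&
    R.image.all (fun e => Nat.blt e.2 2048 && Nat.beq (Nat.xor e.2 (actV R.a e.2)) e.1) &&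
    R.roots.all (rootK R.a) &&
    ((List.range 2048).all fun v => !(Nat.beq (Nat.xor (Nat.xor v (actV R.a v)) R.c) (coords.getD 18 0))) &&
    (Nat.beq R.a 0 || (List.range 2048).all fun v => !(Nat.beq (Nat.xor (Nat.xor v (actV R.a v)) R.c) 0) ||
      R.roots.any fun r => R.image.any fun e => Nat.beq e.1 (Nat.xor v r.1))

/-- The rows of the nontrivial permutation parts. -/
def allRows : List SylRow := sylRows1 ++ sylRows2 ++ sylRows3 ++ sylRows4

/-- The rows cover the involutions. -/
noncomputable def coverK : Bool :=
  invList.all (fun a => allRows.any fun R => Nat.beq R.a a) &&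
    sylRows0.all (fun R => Nat.beq R.a 0 && Nat.beq R.c 0) && Nat.blt 0 sylRows0.length &&
    (List.range 128).all fun a => Nat.beq (permAt a 18) 18

/-- A mask of listed numbers. -/
def maskOf (L : List ℕ) : ℕ := L.foldr (fun u acc => Nat.lor (Nat.shiftLeft 1 u) acc) 0

/-- Steps, each from a number reached before. -/
noncomputable def stepsK (f : ℕ → ℕ → ℕ) (n : ℕ) : List (ℕ × ℕ × ℕ) → ℕ → Bool :=
  fun L => List.rec (motive := fun _ => ℕ → Bool) (fun _ => true)
    (fun e _ ih m => Nat.blt e.2.1 n && Nat.testBit m e.2.2 && Nat.beq (f e.2.1 e.2.2) e.1 &&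
      ih (Nat.lor (Nat.shiftLeft 1 e.1) m)) L

/-- The vectors reached from the roots. -/
noncomputable def vecK : Bool :=
  let rs := (sylRows0.getD 0 { a := 0, c := 0, image := [], roots := [] }).roots.map Prod.fst
  stepsK (fun k v => actV (Nat.pow 2 k) v) 7 vecSteps (maskOf rs) &&
    (List.range 2048).all fun v => Nat.testBit (maskOf (rs ++ vecSteps.map Prod.fst)) v

/-- The points of `vList`. -/
noncomputable def vMask : ℕ := maskOf vList

/-- The list is increasing and contains only points of the kind wanted. -/
noncomputable def vListK : Bool :=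
  Nat.beq vList.length 693 &&
    ((List.range 692).all fun i => Nat.blt (vList.getD i 0) (vList.getD (Nat.succ i) 0)) &&
    vList.all fun u => Nat.blt u 31671 && Nat.beq (forestH.cls u) 1 && Nat.beq (table.img 0 u) u &&
      !(Nat.beq u 11589)

/-- The list contains all points of the kind wanted. -/
noncomputable def vScanK (s n : ℕ) : Bool :=
  (List.range n).all fun i =>
    !(Nat.beq (table.img 0 (Nat.add s i)) (Nat.add s i)) || !(Nat.beq (forestH.cls (Nat.add s i)) 1) ||
      Nat.testBit vMask (Nat.add s i) || Nat.beq (Nat.add s i) 11589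

/-- The diagram on the seven places c, d, e, h, f, i, g. -/
def adj (j k : ℕ) : Bool :=
  [(0, 1), (1, 2), (1, 3), (2, 4), (3, 5), (4, 6)].any fun e =>
    (Nat.beq e.1 j && Nat.beq e.2 k) || (Nat.beq e.1 k && Nat.beq e.2 j)

/-- A candidate for the next place. -/
noncomputable def candK (pre : List ℕ) (u : ℕ) : Bool :=
  (List.range pre.length).all fun j =>
    bif adj j pre.length then !(Nat.beq (table.imgW (hw (pre.getD j 0)) u) u)
    else Nat.beq (table.imgW (hw (pre.getD j 0)) u) u && !(Nat.beq (hp (pre.getD j 0)) u)

/-- A node: generators, steps, coverage of the candidates. -/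
noncomputable def nodeK (cand : List ℕ → ℕ → Bool) (M : Node) : Bool :=
  M.pre.all (fun i => Nat.blt i halves.length) && M.roots.all (fun i => Nat.blt i halves.length) &&
    M.gens.all (fun w => w.all (fun x => Nat.blt x 10) && Nat.beq (table.imgW w 0) 0 &&
      Nat.beq (table.imgW w (hp firstIx)) (hp firstIx) &&
      M.pre.all fun i => Nat.beq (table.imgW w (hp i)) (hp i)) &&
    stepsK (fun i v => table.imgW (M.gens.getD i []) v) M.gens.length M.steps (maskOf (M.roots.map hp)) &&
    vList.all fun u => !(cand M.pre u) || Nat.testBit (maskOf (M.roots.map hp ++ M.steps.map Prod.fst)) u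

/-- Every root continues to a node or a leaf. -/
noncomputable def linkK (M : Node) : Bool :=
  M.roots.all fun r =>
    bif Nat.blt M.pre.length 6 then nodes.any fun M' => decide (M'.pre = M.pre ++ [r])
    else Nat.beq M.pre.length 6 && leaves.any fun l => decide (l.tup = M.pre ++ [r])

/-- The word of the seven places in the order c, d, e, f, g, h, i, nine times. -/
noncomputable def leafWord (t : List ℕ) : List ℕ :=
  (List.replicate 9 ([5, 3, 6, 4, 2, 1, 0].flatMap fun j => hw (t.getD j 0))).flatten

/-- A leaf: refutations of the two values, or the properties wanted. -/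
noncomputable def leafK (l : Leaf) : Bool :=
  l.tup.all (fun i => Nat.blt i halves.length) && Nat.blt l.ptFirst 31671 && Nat.blt l.ptOne 31671 &&
    (bif l.notFirst then !(Nat.beq (table.imgW (leafWord l.tup) l.ptFirst) (table.img 0 l.ptFirst))
      else Nat.blt l.wit halves.length && Nat.beq (forestH.cls (hp l.wit)) 1 &&
        ([0, 1, 2, 3, 4, 5].all fun j => fixesK (l.tup.getD j 0) l.wit) &&
        !(fixesK (l.tup.getD 6 0) l.wit) && !(fixesK firstIx l.wit)) &&
    (!l.notOne || !(Nat.beq (table.imgW (leafWord l.tup) l.ptOne) l.ptOne))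

/-- The points with the pattern at the last value of the word. -/
noncomputable def lastK (l : Leaf) (s n : ℕ) : Bool :=
  l.notOne || (List.range n).all fun i =>
    let u := Nat.add s i
    !(Nat.beq (table.imgW (hw (l.tup.getD 6 0)) u) u) || Nat.beq (table.img 0 u) u ||
      !([2, 1, 3, 5].all fun j => Nat.beq (table.imgW (hw (l.tup.getD j 0)) u) u) ||
      !(Nat.beq (forestH.cls u) 1) || Nat.beq (table.imgW (hw (l.tup.getD 4 0)) u) u

/-- The standard points and the triples. -/
noncomputable def stdK : Bool :=
  Nat.blt baseIx halves.length && Nat.beq (hp baseIx) 0 &&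
  Nat.blt firstIx halves.length && Nat.beq (hp firstIx) (genPts.getD 0 0) &&
  decide ((nodes.getD 0 nodeU).pre = []) && decide ((nodes.getD 0 nodeU).roots = [secondIx]) &&
  decide (nodeU.pre = [secondIx]) && decide (nodeU.roots = [thirdIx]) &&
  Nat.testBit vMask (hp secondIx) && Nat.testBit vMask (hp thirdIx) &&
  Nat.beq sixIx.length 6 && sixIx.all (fun i => Nat.blt i halves.length && Nat.testBit vMask (hp i)) &&
  genPts.all (fun p => Nat.beq (table.imgW (sixIx.flatMap hw) p) (table.img 0 p))

/-- The candidates of the last place of a triple. -/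
noncomputable def triCandK (pre : List ℕ) (u : ℕ) : Bool :=
  pre.all fun j => Nat.beq (table.imgW (hw j) u) u && !(Nat.beq (hp j) u)

/-- A square root of a product of transpositions. -/
noncomputable def squareK (y : List ℕ) (L : List ℕ) : Bool :=
  y.all (fun x => Nat.blt x 10) && Nat.beq (table.imgW y 0) 0 && L.all (fun i => Nat.blt i halves.length) &&
    genPts.all fun p => Nat.beq (table.imgW (y ++ y) p) (table.imgW (L.flatMap hw) p)

/-- The number of points fixed by a word. -/
noncomputable def fixCountK (w : List ℕ) : ℕ :=
  Nat.rec 0 (fun u ih => bif Nat.beq (table.imgW w u) u then Nat.succ ih else ih) 31671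

/-- A fixed point of the product of the first and third generators is fixed by both. -/
noncomputable def pairScanK : Bool :=
  (List.range 31671).all fun u =>
    !(Nat.beq (table.imgW [0, 2] u) u) || (Nat.beq (table.img 0 u) u && Nat.beq (table.img 2 u) u)

end CfsgLib.Sporadic.Fi23Centralizer
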