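import Cfsg.Agent.Lib.Sporadic.Fi23Centralizer.Classes
import Cfsg.Agent.Lib.Sporadic.Fi23Centralizer.Cover

/-!
A group with the centraliser of Fi23: the trace of the class on the centraliser is that of the model,
after the symmetry if needed.
-/

set_option autoImplicit false
set_option maxRecDepth 100000

open Cfsg.Spor

namespace CfsgLib.Sporadic.Fi23Centralizer

open CosetCert CosetCert.Fi23P FiTransfer23
open Fi23Data (table forestH)
open Two (el dp conj_dp gpt gen_eq_dp)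
open OutFi (dp_injective dp_sq dp_ne_one)
open FiTransfer23.Near (commute_dp_iff dp_mem)
open ThreeTransp.TypeTwentyFour.Model (class_eq tr_eq_dp)

attribute [local irreducible] PTab.img Forest.cls

theorem mem_stab {x : Fi23} : x ∈ sub lH ↔ hom x pt = pt := ⟨fun h => hom_fix x h, Two.stab_le⟩

theorem fix_dp_pt {p : Fin table.N} (h : Adj pt p) : hom (dp p) pt = pt := fix_symm.1 h.2

theorem fix_pt_dp {p : Fin table.N} (h : hom (dp p) pt = pt) : p = pt ∨ Adj pt p := by
  by_cases hp : p = pt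
  · exact Or.inl hp
  · exact Or.inr ⟨Ne.symm hp, fix_symm.1 h⟩

universe u

variable {G : Type u} [Group G]

/-- An embedding of the double cover as the centraliser of `d`. -/
structure Emb (d : G) where
  emb : sub lH →* G
  inj : Function.Injective emb
  surj : ∀ g : G, g * d = d * g → g ∈ emb.range
  map_tr : emb trH = d

variable {d : G}

namespace Emb

open scoped Classical in
/-- The embedding on the elements fixing the base point. -/
noncomputable def E (M : Emb d) (x : Fi23) : G := if h : x ∈ sub lH then M.emb ⟨x, h⟩ else 1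

variable (M : Emb d)

theorem E_coe (x : sub lH) : M.E x = M.emb x := dif_pos x.2

theorem E_tr : M.E tr = d := (M.E_coe trH).trans M.map_tr

theorem E_pt : M.E (dp pt) = d := tr_eq_dp ▸ M.E_tr

theorem E_mul {x y : Fi23} (hx : hom x pt = pt) (hy : hom y pt = pt) : M.E (x * y) = M.E x * M.E y := by
  have hx' := mem_stab.2 hx
  have hy' := mem_stab.2 hy
  rw [E, E, E, dif_pos (mul_mem hx' hy'), dif_pos hx', dif_pos hy', ← map_mul]
  rfl

theorem E_one : M.E 1 = 1 := (M.E_coe 1).trans (map_one _)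

theorem fix_mul {x y : Fi23} (hx : hom x pt = pt) (hy : hom y pt = pt) : hom (x * y) pt = pt :=
  mem_stab.1 (mul_mem (mem_stab.2 hx) (mem_stab.2 hy))

theorem fix_inv {x : Fi23} (hx : hom x pt = pt) : hom x⁻¹ pt = pt :=
  mem_stab.1 (inv_mem (mem_stab.2 hx))

theorem E_inv {x : Fi23} (hx : hom x pt = pt) : M.E x⁻¹ = (M.E x)⁻¹ := by
  rw [eq_inv_iff_mul_eq_one, ← M.E_mul (fix_inv hx) hx, inv_mul_cancel, M.E_one]

theorem E_conj {g x : Fi23} (hg : hom g pt = pt) (hx : hom x pt = pt) :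
    M.E (g * x * g⁻¹) = M.E g * M.E x * (M.E g)⁻¹ := by
  rw [M.E_mul (fix_mul hg hx) (fix_inv hg), M.E_mul hg hx, M.E_inv hg]

theorem E_inj {x y : Fi23} (hx : hom x pt = pt) (hy : hom y pt = pt) (h : M.E x = M.E y) : x = y := by
  have hx' := mem_stab.2 hx
  have hy' := mem_stab.2 hy
  rw [E, E, dif_pos hx', dif_pos hy'] at h
  exact congrArg Subtype.val (M.inj h)

theorem E_commute {x y : Fi23} (hx : hom x pt = pt) (hy : hom y pt = pt) :
    Commute (M.E x) (M.E y) ↔ Commute x y := by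
  constructor
  · intro h
    exact M.E_inj (fix_mul hx hy) (fix_mul hy hx) (by rw [M.E_mul hx hy, M.E_mul hy hx]; exact h.eq)
  · intro h
    show _ = _
    rw [← M.E_mul hx hy, ← M.E_mul hy hx, h.eq]

theorem E_comm_d {x : Fi23} (hx : hom x pt = pt) : Commute (M.E x) d := by
  have h := (M.E_commute hx (hom_fix tr tr_mem)).2 (tr_comm (mem_stab.2 hx))
  rwa [M.E_tr] at h

theorem exists_E {g : G} (h : Commute g d) : ∃ x, hom x pt = pt ∧ M.E x = g := by
  obtain ⟨z, hz⟩ := M.surj g h.eq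
  exact ⟨z, hom_fix _ z.2, (M.E_coe z).trans hz⟩

theorem E_pow {x : Fi23} (hx : hom x pt = pt) : ∀ n : ℕ, hom (x ^ n) pt = pt ∧ M.E (x ^ n) = M.E x ^ n := by
  intro n
  induction n with
  | zero => simp [M.E_one]
  | succ n ih =>
    rw [pow_succ, pow_succ]
    exact ⟨fix_mul ih.1 hx, by rw [M.E_mul ih.1 hx, ih.2]⟩

/-- The trace of the class of `d`. -/
def InD (x : Fi23) : Prop := hom x pt = pt ∧ IsConj d (M.E x)

theorem InD_conj {g x : Fi23} (hg : hom g pt = pt) (h : M.InD x) : M.InD (g * x * g⁻¹) :=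
  ⟨fix_mul (fix_mul hg h.1) (fix_inv hg), by
    rw [M.E_conj hg h.1]; exact h.2.trans (isConj_iff.2 ⟨_, rfl⟩)⟩

theorem tr_fix : hom tr pt = pt := hom_fix tr tr_mem

variable (hd : d * d = 1)

include hd

theorem InD_sq {x : Fi23} (h : M.InD x) : x * x = 1 := by
  refine M.E_inj (fix_mul h.1 h.1) (by simp) ?_
  obtain ⟨g, hg⟩ := isConj_iff.1 h.2
  rw [M.E_mul h.1 h.1, M.E_one, ← hg]
  calc g * d * g⁻¹ * (g * d * g⁻¹) = g * (d * d) * g⁻¹ := by group
    _ = 1 := by rw [hd]; group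

omit hd in
theorem InD_not_square {x y : Fi23} (h : M.InD x) (hy : hom y pt = pt) : y * y ≠ x := by
  rintro rfl
  obtain ⟨g, hg⟩ := isConj_iff.1 h.2
  rw [M.E_mul hy hy] at hg
  set w := g⁻¹ * M.E y * g with hw
  have hww : w * w = d := by
    rw [hw, show g⁻¹ * M.E y * g * (g⁻¹ * M.E y * g) = g⁻¹ * (M.E y * M.E y) * g by group, ← hg]
    group
  have hwc : Commute w d := by rw [← hww]; exact (Commute.refl w).mul_right (Commute.refl w)
  obtain ⟨z, hz, hzw⟩ := M.exists_E hwc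
  refine not_sq hz (tr_eq_dp ▸ M.E_inj (fix_mul hz hz) tr_fix ?_)
  rw [M.E_mul hz hz, hzw, hww, M.E_tr]

theorem InD_cases {x : Fi23} (h : M.InD x) (hne : x ≠ tr) (hd1 : d ≠ 1) :
    ∃ p, Adj pt p ∧ (x = dp p ∨ x = tr * dp p) := by
  have h1 : x ≠ 1 := by
    rintro rfl
    obtain ⟨g, hg⟩ := isConj_iff.1 h.2
    rw [M.E_one] at hg
    exact hd1 (conj_eq_one_iff.1 hg)
  rcases stab_cases h.1 (M.InD_sq hd h) h1 with e | ⟨p, hp, e⟩ | ⟨p, hp, e⟩ | ⟨y, hy, e⟩
  · exact absurd e hne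
  · exact ⟨p, hp, Or.inl e⟩
  · exact ⟨p, hp, Or.inr e⟩
  · exact absurd e (M.InD_not_square h hy)

omit hd in
theorem InD_move {p q : Fin table.N} (hp : Adj pt p) (hq : Adj pt q) :
    (M.InD (dp p) → M.InD (dp q)) ∧ (M.InD (tr * dp p) → M.InD (tr * dp q)) := by
  obtain ⟨a, ha, ha'⟩ := trans_one hp
  obtain ⟨b, hb, hb'⟩ := trans_one hq
  have hg : hom (b⁻¹ * a) pt = pt := fix_mul (fix_inv hb) ha
  have hgp : hom (b⁻¹ * a) p = q := by
    rw [map_mul, Equiv.Perm.mul_apply, ha', map_inv, ← hb', inv_app]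
  constructor
  · intro h
    have := M.InD_conj hg h
    rwa [conj_dp, hgp] at this
  · intro h
    have := M.InD_conj hg h
    rwa [← conj_mul, conj_dp, hgp, tr_comm (mem_stab.2 hg), mul_inv_cancel_right] at this

theorem not_both (hd1 : d ≠ 1) {p : Fin table.N} (hp : Adj pt p) (ha : M.InD (dp p))
    (hb : M.InD (tr * dp p)) : False := by
  obtain ⟨g, hg⟩ := isConj_iff.1 ha.2
  obtain ⟨q, hq, hpq⟩ : ∃ q, Adj pt q ∧ Adj p q := by
    obtain ⟨a, ha1, ha2⟩ := trans_one hp
    refine ⟨hom a⁻¹ c0, (adj_conj a).1 ?_, (adj_conj a).1 ?_⟩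
    · rw [ha1, map_inv, app_inv]; exact inV_c0.1
    · rw [ha2, map_inv, app_inv]; exact inV_c0.2
  have hqd : M.InD (dp q) := (M.InD_move hp hq).1 ha
  have hpf := fix_dp_pt hp
  have hqf := fix_dp_pt hq
  obtain ⟨z, hz, hzy⟩ := M.exists_E (g := g⁻¹ * M.E (dp q) * g) (by
    have h := ((M.E_commute hqf hpf).2 (adj_iff.1 hpq).2.symm)
    rw [← Commute.conj_iff g, hg, show g * (g⁻¹ * M.E (dp q) * g) * g⁻¹ = M.E (dp q) by group]
    exact h)
  have hzD : M.InD z := ⟨hz, by
    rw [hzy]; exact hqd.2.trans (isConj_iff.2 ⟨g⁻¹, by group⟩)⟩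
  have hzne : z ≠ tr := by
    rintro rfl
    rw [M.E_tr] at hzy
    have : M.E (dp q) = M.E (dp p) :=
      calc M.E (dp q) = g * (g⁻¹ * M.E (dp q) * g) * g⁻¹ := by group
        _ = g * d * g⁻¹ := by rw [← hzy]
        _ = M.E (dp p) := hg
    exact (adj_iff.1 hpq).1 (dp_injective (M.E_inj hqf hpf this)).symm
  obtain ⟨r, hr, hzr⟩ := M.InD_cases hd hzD hzne hd1
  have htz : M.InD (tr * z) := by
    rcases hzr with rfl | rfl
    · exact (M.InD_move hp hr).2 hb
    · rw [← mul_assoc, tr_mul_self, one_mul]; exact (M.InD_move hp hr).1 ha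
  have hprod : M.InD (dp p * dp q) := ⟨fix_mul hpf hqf, by
    refine htz.2.trans (isConj_iff.2 ⟨g, ?_⟩)
    rw [M.E_mul tr_fix hz, M.E_mul hpf hqf, M.E_tr, hzy, ← hg]
    group⟩
  obtain ⟨y, hy, he⟩ := square_pair hp hq hpq
  exact M.InD_not_square hprod hy he

/-- Members are conjugate to `d`, or their products with the centre are. -/
theorem member_or (hd1 : d ≠ 1) {g : G} (hg : Commute (g * d * g⁻¹) d) (hne : g * d * g⁻¹ ≠ d) :
    M.InD (dp fst0) ∨ M.InD (tr * dp fst0) := by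
  obtain ⟨x, hx, hxe⟩ := M.exists_E hg
  have hxD : M.InD x := ⟨hx, hxe ▸ isConj_iff.2 ⟨g, rfl⟩⟩
  obtain ⟨p, hp, e | e⟩ := M.InD_cases hd hxD (fun e => hne (by rw [← hxe, e, M.E_tr])) hd1
  · exact Or.inl ((M.InD_move hp adj_pt_fst).1 (e ▸ hxD))
  · exact Or.inr ((M.InD_move hp adj_pt_fst).2 (e ▸ hxD))

theorem InD_iff (hd1 : d ≠ 1) (hfst : M.InD (dp fst0)) {x : Fi23} (hx : hom x pt = pt) :
    IsConj d (M.E x) ↔ x ∈ classTr := by
  constructor
  · intro h
    by_cases hxt : x = tr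
    · rw [hxt]; exact ThreeTransp.TypeTwentyFour.Model.tr_mem_class
    obtain ⟨p, hp, e | e⟩ := M.InD_cases hd ⟨hx, h⟩ hxt hd1
    · rw [e]; exact dp_mem p
    · exact (M.not_both hd hd1 hp ((M.InD_move adj_pt_fst hp).1 hfst) (e ▸ ⟨hx, h⟩)).elim
  · intro h
    rw [class_eq] at h
    obtain ⟨p, rfl⟩ := h
    rcases fix_pt_dp hx with rfl | hp
    · rw [M.E_pt]
    · exact ((M.InD_move adj_pt_fst hp).1 hfst).2

end Emb

theorem gpt_six_adj : Adj pt (gpt 6) :=
  (cls_one_iff _).1 (by rw [Two.gpt_val (by norm_num)]; decide +kernel)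

theorem gH_a : ((gH .a : sub lH) : Fi23) = dp fst0 := gen_eq_dp 0 (by norm_num)

theorem gH_g : ((gH .g : sub lH) : Fi23) = dp (gpt 6) := gen_eq_dp 6 (by norm_num)

/-- The trace of the class is that of the model for a suitable embedding. -/
theorem exists_fused (M : Emb d) (hd : d * d = 1) (hd1 : d ≠ 1) {g : G}
    (hg : Commute (g * d * g⁻¹) d) (hne : g * d * g⁻¹ ≠ d) :
    ∃ M' : Emb d, ∀ x, hom x pt = pt → (IsConj d (M'.E x) ↔ x ∈ classTr) := by
  rcases M.member_or hd hd1 hg hne with h | h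
  · exact ⟨M, fun x => M.InD_iff hd hd1 h⟩
  obtain ⟨θ, htr, ha⟩ := exists_twist
  let M' : Emb d :=
    { emb := M.emb.comp θ.toMonoidHom
      inj := M.inj.comp θ.injective
      surj := fun g hg => by
        obtain ⟨z, hz⟩ := M.surj g hg
        exact ⟨θ.symm z, by show M.emb (θ (θ.symm z)) = g; rw [θ.apply_symm_apply, hz]⟩
      map_tr := by show M.emb (θ trH) = d; rw [htr, M.map_tr] }
  refine ⟨M', fun x => M'.InD_iff hd hd1 ⟨fix_dp_pt adj_pt_fst, ?_⟩⟩
  have e : M'.E (dp fst0) = M.E (tr * dp (gpt 6)) := by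
    rw [← gH_a, M'.E_coe]
    show M.emb (θ (gH .a)) = _
    rw [ha, ← M.E_coe, Subgroup.coe_mul, gH_g]
    rfl
  rw [e]
  exact ((M.InD_move adj_pt_fst gpt_six_adj).2 h).2

/-- A centraliser with the structure of the double cover gives an embedding. -/
theorem exists_emb [Finite G] (hd : orderOf d = 2)
    (hq : Cfsg.IsQuasisimple (Subgroup.centralizer ({d} : Set G)))
    [((Subgroup.zpowers d).subgroupOf (Subgroup.centralizer ({d} : Set G))).Normal]
    (e : Cfsg.Spor.IsoFi22 ((Subgroup.centralizer ({d} : Set G)) ⧸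
      (Subgroup.zpowers d).subgroupOf (Subgroup.centralizer ({d} : Set G)))) :
    Nonempty (Emb d) := by
  obtain ⟨e⟩ := e
  set C := Subgroup.centralizer ({d} : Set G) with hC
  set N := (Subgroup.zpowers d).subgroupOf C with hN
  have hdC : d ∈ C := Subgroup.mem_centralizer_singleton_iff.2 rfl
  set π := e.toMonoidHom.comp (QuotientGroup.mk' N) with hπ
  have hker : π.ker = N := by
    ext z
    rw [MonoidHom.mem_ker, hπ, MonoidHom.comp_apply, MulEquiv.coe_toMonoidHom, MulEquiv.map_eq_one_iff,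
      QuotientGroup.mk'_apply, QuotientGroup.eq_one_iff]
  have hcard : Nat.card π.ker = 2 := by
    rw [hker, hN, Nat.card_congr (Subgroup.subgroupOfEquivOfLe ((Subgroup.zpowers_le).2 hdC)).toEquiv,
      Nat.card_zpowers, hd]
  obtain ⟨φ, hφ⟩ := cover_unique (Group.isPerfect_def.1 hq.1) π
    (e.surjective.comp (QuotientGroup.mk'_surjective N)) (by
      rw [hker]
      intro z hz
      obtain ⟨n, hn⟩ := Subgroup.mem_zpowers_iff.1 hz
      refine Subgroup.mem_center_iff.2 fun c => Subtype.ext ?_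
      show (c : G) * (z : G) = (z : G) * c
      rw [show (z : G) = d ^ n from hn.symm]
      exact (Commute.zpow_right (Subgroup.mem_centralizer_singleton_iff.1 c.2) n).eq) hcard
  refine ⟨⟨C.subtype.comp φ.symm.toMonoidHom, C.subtype_injective.comp φ.symm.injective, ?_, ?_⟩⟩
  · intro g hg
    exact ⟨φ ⟨g, Subgroup.mem_centralizer_singleton_iff.2 hg⟩, by simp⟩
  · have h : φ ⟨d, hdC⟩ = trH := by
      refine (ker_cases ?_).resolve_left fun h => ?_
      · rw [hφ, ← MonoidHom.mem_ker, hker]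
        exact Subgroup.mem_zpowers d
      · have := congrArg Subtype.val (φ.map_eq_one_iff.1 h)
        rw [show d = 1 from this, orderOf_one] at hd
        exact absurd hd (by norm_num)
    show ((φ.symm trH : C) : G) = d
    rw [← h, φ.symm_apply_apply]

end CfsgLib.Sporadic.Fi23Centralizer
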