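import Cfsg.Agent.Lib.Sporadic.Fi23Centralizer.Node

/-!
# Fi23 from the centraliser of a transposition

A finite group with an involution whose centraliser is a quasisimple double cover of Fi22 and which
commutes with another of its conjugates is Fi23, the class going to the class of transpositions.
-/

set_option autoImplicit false
set_option maxRecDepth 100000

open Cfsg.Spor

namespace CfsgLib.Sporadic.Fi23Centralizer

open CosetCert CosetCert.Fi23P FiTransfer23
open Fi23Data (table)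
open Two (dp conj_dp gpt gen_eq_dp)
open OutFi (dp_sq)
open ThreeTransp.TypeTwentyFour.Model (class_eq tr_eq_dp)

attribute [local irreducible] PTab.img Forest.cls

universe u

variable {G : Type u} [Group G] {d : G}

theorem gen_cases (x : Fi23.Gen) : x = .j ∨ ∃ y, x = incl y := by
  cases x
  case j => exact Or.inl rfl
  all_goals first
    | exact Or.inr ⟨.a, rfl⟩ | exact Or.inr ⟨.b, rfl⟩ | exact Or.inr ⟨.c, rfl⟩
    | exact Or.inr ⟨.d, rfl⟩ | exact Or.inr ⟨.e, rfl⟩ | exact Or.inr ⟨.f, rfl⟩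
    | exact Or.inr ⟨.g, rfl⟩ | exact Or.inr ⟨.h, rfl⟩ | exact Or.inr ⟨.i, rfl⟩

/-- The images of the generators. -/
noncomputable def genMap (M : Emb d) (j : G) (x : Fi23.Gen) : G :=
  if x = .j then j else M.E (coding.gen (code x))

theorem genMap_incl (M : Emb d) (j : G) (y : Fi22.Gen) : genMap M j (incl y) = M.emb (gH y) := by
  rw [genMap, if_neg (by cases y <;> simp [incl]), ← M.E_coe (gH y)]
  rfl

theorem lift_incl (M : Emb d) (j : G) (r : FreeGroup Fi22.Gen)
    (hr : PresentedGroup.mk (coxRelators Fi23.edges ∪ {r | r ∈ Fi23.extra}) (FreeGroup.map incl r) = 1) :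
    FreeGroup.lift (genMap M j) (FreeGroup.map incl r) = 1 := by
  have e : (FreeGroup.lift (genMap M j)).comp (FreeGroup.map incl) = M.emb.comp (FreeGroup.lift gH) :=
    FreeGroup.ext_hom _ _ fun y => by simp [genMap_incl]
  have e2 : (sub lH).subtype.comp (FreeGroup.lift gH) =
      (PresentedGroup.mk (coxRelators Fi23.edges ∪ {r | r ∈ Fi23.extra})).comp (FreeGroup.map incl) :=
    FreeGroup.ext_hom _ _ fun y => by
      simp only [MonoidHom.comp_apply, FreeGroup.lift_apply_of, FreeGroup.map.of]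
      exact coding.gen_code (incl y)
  have h1 : FreeGroup.lift gH r = 1 := Subtype.ext ((DFunLike.congr_fun e2 r).trans hr)
  rw [← MonoidHom.comp_apply, e, MonoidHom.comp_apply, h1, map_one]

theorem exists_hom (M : Emb d) {j : G} (hj : j * j = 1)
    (h7 : (j * M.E (dp (gpt 6))) ^ 3 = 1) (h7' : (M.E (dp (gpt 6)) * j) ^ 3 = 1)
    (hc : ∀ x ∈ [0, 1, 2, 3, 4, 5, 8, 9], Commute j (M.E (dp (gpt x)))) :
    ∃ ψ : Fi23 →* G, ∀ x : sub lH, ψ x = M.emb x := by
  have hcomm : ∀ y : Fi22.Gen, y ≠ .g → Commute j (M.emb (gH y)) := by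
    intro y hy
    have h := hc (code (incl y)) (by cases y <;> simp_all [code, incl])
    rw [← gen_eq_dp _ (by cases y <;> decide)] at h
    rwa [← M.E_coe (gH y)]
  have hsq : ∀ y : Fi22.Gen, M.emb (gH y) * M.emb (gH y) = 1 := fun y => by
    rw [← map_mul, gH_sq, map_one]
  have hg : M.emb (gH .g) = M.E (dp (gpt 6)) := by rw [← M.E_coe, gH_g]
  have hrel : ∀ r ∈ coxRelators Fi23.edges ∪ {r | r ∈ Fi23.extra},
      FreeGroup.lift (genMap M j) r = 1 := by
    rintro r (⟨x, -, y, -, rfl⟩ | hr)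
    · rcases gen_cases x with rfl | ⟨x, rfl⟩ <;> rcases gen_cases y with rfl | ⟨y, rfl⟩
      · rw [show coxLabel Fi23.edges Fi23.Gen.j Fi23.Gen.j = 1 by decide, pow_one, map_mul,
          FreeGroup.lift_apply_of, genMap, if_pos rfl, hj]
      · rw [map_pow, map_mul, FreeGroup.lift_apply_of, FreeGroup.lift_apply_of, genMap_incl,
          genMap, if_pos rfl]
        by_cases hy : y = .g
        · subst hy
          rw [show coxLabel Fi23.edges Fi23.Gen.j (incl .g) = 3 by decide, hg, h7]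
        · rw [show coxLabel Fi23.edges Fi23.Gen.j (incl y) = 2 by cases y <;> simp_all <;> decide,
            (hcomm y hy).mul_pow, pow_two, pow_two, hj, hsq, one_mul]
      · rw [map_pow, map_mul, FreeGroup.lift_apply_of, FreeGroup.lift_apply_of, genMap_incl,
          genMap, if_pos rfl]
        by_cases hx : x = .g
        · subst hx
          rw [show coxLabel Fi23.edges (incl .g) Fi23.Gen.j = 3 by decide, hg, h7']
        · rw [show coxLabel Fi23.edges (incl x) Fi23.Gen.j = 2 by cases x <;> simp_all <;> decide,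
            (hcomm x hx).symm.mul_pow, pow_two, pow_two, hj, hsq, one_mul]
      · rw [show (FreeGroup.of (incl x) * FreeGroup.of (incl y)) ^ coxLabel Fi23.edges (incl x) (incl y) =
          FreeGroup.map incl ((FreeGroup.of x * FreeGroup.of y) ^ coxLabel Fi23.edges (incl x) (incl y)) by
          simp]
        refine lift_incl M j _ ?_
        rw [map_pow, map_mul, FreeGroup.map.of, FreeGroup.map.of]
        exact PresentedGroup.one_of_mem (Or.inl ⟨_, mem_nodes _, _, mem_nodes _, rfl⟩)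
    · have hr' := hr
      simp only [Fi23.extra, List.mem_cons, List.not_mem_nil, or_false, Set.mem_ofPred_eq] at hr
      rcases hr with rfl | rfl
      · rw [show (Fi23.d * Fi23.c * Fi23.b * Fi23.d * Fi23.e * Fi23.f * Fi23.d * Fi23.h * Fi23.i) ^ 10 =
          FreeGroup.map incl ((Fi22.d * Fi22.c * Fi22.b * Fi22.d * Fi22.e * Fi22.f * Fi22.d * Fi22.h *
            Fi22.i) ^ 10) by simp [incl]]
        refine lift_incl M j _ (PresentedGroup.one_of_mem (Or.inr ?_))
        simp [incl, Fi23.extra]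
      · rw [show (Fi23.a * Fi23.b * Fi23.c * Fi23.d * Fi23.e * Fi23.f * Fi23.h) ^ 9 =
          FreeGroup.map incl ((Fi22.a * Fi22.b * Fi22.c * Fi22.d * Fi22.e * Fi22.f * Fi22.h) ^ 9) by
          simp [incl]]
        refine lift_incl M j _ (PresentedGroup.one_of_mem (Or.inr ?_))
        simp [incl, Fi23.extra]
  refine ⟨PresentedGroup.toGroup hrel, fun x => ?_⟩
  obtain ⟨x, hx⟩ := x
  induction hx using Subgroup.closure_induction with
  | mem x hx =>
    obtain ⟨l, hl, rfl⟩ := hx
    obtain ⟨y, rfl⟩ := incl_surj l hl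
    show PresentedGroup.toGroup hrel (coding.gen (code (incl y))) = M.emb (gH y)
    rw [gen_of, PresentedGroup.toGroup.of, genMap_incl]
  | one => exact (map_one _).trans (map_one M.emb).symm
  | mul a b ha hb iha ihb =>
    show PresentedGroup.toGroup hrel (a * b) = M.emb (⟨a, ha⟩ * ⟨b, hb⟩)
    rw [map_mul, map_mul, iha, ihb]
  | inv a ha iha =>
    show PresentedGroup.toGroup hrel a⁻¹ = M.emb (⟨a, ha⟩⁻¹)
    rw [map_inv, map_inv, iha]

theorem setting (M : Emb d) (hd : d * d = 1) (hd1 : d ≠ 1)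
    (hM : ∀ x, hom x pt = pt → (IsConj d (M.E x) ↔ x ∈ classTr)) (ψ : Fi23 →* G)
    (hψ : ∀ x : sub lH, ψ x = M.emb x) : Embedded.Setting ψ (classTr : Set Fi23) d := by
  have htr : ψ tr = d := (hψ trH).trans M.map_tr
  have hinj : Function.Injective ψ := by
    have := CosetCert.Fi23P.isSimple
    rw [← MonoidHom.ker_eq_bot_iff]
    refine (ψ.normal_ker.eq_bot_or_eq_top).resolve_right fun h => hd1 ?_
    rw [← htr]
    exact MonoidHom.mem_ker.1 (h ▸ Subgroup.mem_top tr)
  refine ⟨hinj, fun g hg => ?_, ⟨tr, ThreeTransp.TypeTwentyFour.Model.tr_mem_class, htr⟩,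
    fun p hp g => classTr_conj hp, ?_, fun x hx => ?_, ?_, ?_⟩
  · obtain ⟨z, hz⟩ := M.surj g hg
    exact ⟨z, (hψ z).trans hz⟩
  · intro p hp q hq
    exact isConj_iff.1 (hp.symm.trans hq)
  · obtain ⟨w, hw⟩ := isConj_iff.1 hx
    have h2 : x * x = 1 := hinj (by
      rw [map_mul, map_one, ← hw, show w * d * w⁻¹ * (w * d * w⁻¹) = w * (d * d) * w⁻¹ by group, hd]
      group)
    obtain ⟨c, hc⟩ := exists_fix h2
    obtain ⟨g, hg⟩ := transitive c
    have hy : hom (g⁻¹ * x * g) pt = pt := by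
      rw [map_mul, map_mul, Equiv.Perm.mul_apply, Equiv.Perm.mul_apply, hg, hc, map_inv, ← hg,
        inv_app]
    have hcl : g⁻¹ * x * g ∈ classTr := (hM _ hy).1 (by
      rw [show g⁻¹ * x * g = ((⟨g⁻¹ * x * g, Two.stab_le hy⟩ : sub lH) : Fi23) from rfl, M.E_coe, ← hψ]
      exact hx.trans (isConj_iff.2 ⟨ψ g⁻¹, by simp [mul_assoc]⟩))
    have := classTr_conj (g := g) hcl
    rwa [show g * (g⁻¹ * x * g) * g⁻¹ = x by group] at this
  · intro p hp
    rw [class_eq] at hp
    obtain ⟨v, rfl⟩ := hp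
    exact dp_sq v
  · intro p hp q hq
    rw [class_eq] at hp hq
    obtain ⟨v, rfl⟩ := hp
    obtain ⟨w, rfl⟩ := hq
    exact dp_three v w

/-- The group with its class is the model. -/
theorem modelIso {G : Type u} [Group G] [Finite G] (d : G) (hd : orderOf d = 2)
    (hq : Cfsg.IsQuasisimple (Subgroup.centralizer ({d} : Set G)))
    [((Subgroup.zpowers d).subgroupOf (Subgroup.centralizer ({d} : Set G))).Normal]
    (e : Cfsg.Spor.IsoFi22 ((Subgroup.centralizer ({d} : Set G)) ⧸
      (Subgroup.zpowers d).subgroupOf (Subgroup.centralizer ({d} : Set G))))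
    (hnwc : ∃ g : G, g * d * g⁻¹ ∈ Subgroup.centralizer ({d} : Set G) ∧ g * d * g⁻¹ ≠ d) :
    ModelIso G (conjugatesOf d) := by
  have hd2 : d * d = 1 := by rw [← pow_two, ← hd, pow_orderOf_eq_one]
  have hd1 : d ≠ 1 := fun h => by rw [h, orderOf_one] at hd; exact absurd hd (by norm_num)
  obtain ⟨M₀⟩ := exists_emb hd hq e
  obtain ⟨g, hg, hne⟩ := hnwc
  obtain ⟨M, hM⟩ := exists_fused M₀ hd2 hd1
    (show Commute (g * d * g⁻¹) d from Subgroup.mem_centralizer_singleton_iff.1 hg) hne
  obtain ⟨j, hj, h7, h7', hc⟩ := M.exists_node hM hd2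
  obtain ⟨ψ, hψ⟩ := exists_hom M hj h7 h7' hc
  have S := setting M hd2 hd1 hM ψ hψ
  have hsurj : Function.Surjective ψ := MonoidHom.range_eq_top.1 (S.range_eq_top facts)
  let ε := MulEquiv.ofBijective ψ ⟨S.inj, hsurj⟩
  refine ⟨ε.symm, ?_⟩
  ext x
  constructor
  · rintro ⟨y, hy, rfl⟩
    refine S.trace _ ?_
    show IsConj d (ε (ε.symm y))
    rw [ε.apply_symm_apply]
    exact hy
  · intro hx
    exact ⟨ψ x, S.isConj_mem hx, ε.symm_apply_apply x⟩

end CfsgLib.Sporadic.Fi23Centralizer
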