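import Cfsg.Agent.Lib.Sporadic.Fi23Centralizer.Fusion

/-!
The missing node of the diagram: an element playing the part of the last generator.
-/

set_option autoImplicit false
set_option maxRecDepth 100000

open Cfsg.Spor

namespace CfsgLib.Sporadic.Fi23Centralizer

open CosetCert CosetCert.Fi23P FiTransfer23
open Fi23Data (table forestH)
open Two (el el_append el_nil el_single el_img dp conj_dp gpt gpt_val gen_eq_dp genPts eq_of_sameK)
open OutFi (dp_injective dp_sq dp_ne_one)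
open FiTransfer23.Near (commute_dp_iff dp_mem el_gen)
open ThreeTransp.TypeTwentyFour.Model (class_eq tr_eq_dp)

attribute [local irreducible] PTab.img Forest.cls

/-- Two non-commuting transpositions have product of order three. -/
theorem dp_three (p q : Fin table.N) : Commute (dp p) (dp q) ∨ (dp p * dp q) ^ 3 = 1 := by
  obtain ⟨a, rfl⟩ := transitive p
  obtain ⟨b, hb⟩ := transitive (hom a⁻¹ q)
  have hq : q = hom a (hom b pt) := by rw [hb, map_inv, app_inv]
  rw [hq, ← conj_dp, ← conj_dp, ← conj_dp, Commute.conj_iff, conj_mul, conj_pow, conj_eq_one_iff,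
    ← tr_eq_dp]
  refine (three_transp b).imp (fun h => ?_) id
  have h' : tr * (b * tr * b⁻¹) * (tr * (b * tr * b⁻¹)) = 1 := by rwa [← pow_two]
  have hc : b * tr * b⁻¹ * (b * tr * b⁻¹) = 1 := by
    rw [show b * tr * b⁻¹ * (b * tr * b⁻¹) = b * (tr * tr) * b⁻¹ by group, tr_mul_self]; group
  show _ = _
  calc tr * (b * tr * b⁻¹) = (tr * (b * tr * b⁻¹))⁻¹ := eq_inv_of_mul_eq_one_left h'
    _ = b * tr * b⁻¹ * tr := by
      rw [mul_inv_rev, inv_eq_of_mul_eq_one_right hc, inv_eq_of_mul_eq_one_right tr_mul_self]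

/-- The letters of the seven places. -/
def lettA : List ℕ := [2, 3, 4, 8, 5, 9, 6]

/-- The letters of the last six places of the second diagram. -/
def lettF : List ℕ := [3, 2, 8, 1, 9, 0]

theorem gen_facts : ([0, 1, 2, 3, 4, 5, 6, 8, 9].all fun x =>
    Nat.beq (forestH.cls (genPts.getD x 0)) 1) = true := by decide +kernel

theorem adj_pt_gen {x : ℕ} (hx : x ∈ [0, 1, 2, 3, 4, 5, 6, 8, 9]) : Adj pt (gpt x) := by
  refine (cls_one_iff _).1 ?_
  have hx' : x < 10 := by
    simp only [List.mem_cons, List.not_mem_nil, or_false] at hx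
    omega
  rw [gpt_val hx']
  exact Nat.eq_of_beq_eq_true (List.all_eq_true.1 gen_facts x hx)

/-- The points of the second diagram. -/
noncomputable def ptsF (j : ℕ) : Fin table.N :=
  if j = 0 then pp spareIx else gpt (lettF.getD (j - 1) 0)

/-- Commuting or not, read off the table. -/
noncomputable def linkB (x y : ℕ) : Bool :=
  Nat.beq (table.img x (genPts.getD y 0)) (genPts.getD y 0)

theorem pairs_ok :
    (([2, 3, 4, 8, 5, 9, 6].all fun x => linkB 0 x && !(Nat.beq (genPts.getD 0 0) (genPts.getD x 0))) &&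
      ([3, 2, 8, 1, 9, 0].all fun x => linkB 5 x && !(Nat.beq (genPts.getD 5 0) (genPts.getD x 0))) &&
      ((List.range 7).all fun k => (List.range k).all fun j =>
        bif adj j k then !(linkB (lettA.getD j 0) (lettA.getD k 0))
        else linkB (lettA.getD j 0) (lettA.getD k 0) &&
          !(Nat.beq (genPts.getD (lettA.getD j 0) 0) (genPts.getD (lettA.getD k 0) 0))) &&
      ((List.range 6).all fun k => (List.range k).all fun j =>
        bif adj (j + 1) (k + 1) then !(linkB (lettF.getD j 0) (lettF.getD k 0))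
        else linkB (lettF.getD j 0) (lettF.getD k 0) &&
          !(Nat.beq (genPts.getD (lettF.getD j 0) 0) (genPts.getD (lettF.getD k 0) 0))) &&
      ([0, 1, 2, 5, 8, 9].all fun x => !(Nat.beq (genPts.getD x 0) (hp spareIx))) &&
      !(linkB 1 0)) = true := by
  decide +kernel

theorem link_iff {x y : ℕ} (hx : x < 10) (hy : y < 10) :
    linkB x y = true ↔ hom (dp (gpt x)) (gpt y) = gpt y := by
  rw [fix_gen_iff hx, gpt_val hy, linkB]
  exact Nat.beq_eq.to_iff

theorem gpt_ne {x y : ℕ} (hx : x < 10) (hy : y < 10)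
    (h : Nat.beq (genPts.getD x 0) (genPts.getD y 0) = false) : gpt x ≠ gpt y := by
  intro e
  rw [← gpt_val hx, ← gpt_val hy, e, Nat.beq_refl] at h
  exact Bool.noConfusion h

universe u

variable {G : Type u} [Group G] {d : G}

namespace Emb

variable (M : Emb d)

/-- A point near `d` and another member goes to a point near the base pair. -/
theorem transport (hM : ∀ x, hom x pt = pt → (IsConj d (M.E x) ↔ x ∈ classTr)) {k : G}
    {s : Fin table.N} (hs : Adj pt s) (hkd : k * d * k⁻¹ = M.E (dp fst0))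
    (hks : k * M.E (dp s) * k⁻¹ = d) {p : Fin table.N} (hp : Adj pt p) (hsp : Adj s p) :
    ∃ q, InV q ∧ M.E (dp q) = k * M.E (dp p) * k⁻¹ := by
  have hpf := fix_dp_pt hp
  have hsf := fix_dp_pt hs
  have hff := fix_dp_pt adj_pt_fst
  have h1 : Commute (k * M.E (dp p) * k⁻¹) d := by
    have h := (Commute.conj_iff k).2 ((M.E_commute hpf hsf).2 (adj_iff.1 hsp).2.symm)
    rwa [hks] at h
  obtain ⟨x, hx, hxe⟩ := M.exists_E h1
  have hxc : x ∈ classTr := (hM x hx).1 (by
    rw [hxe]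
    exact ((hM _ hpf).2 (dp_mem p)).trans (isConj_iff.2 ⟨k, rfl⟩))
  rw [class_eq] at hxc
  obtain ⟨q, rfl⟩ := hxc
  refine ⟨q, ⟨?_, ?_⟩, hxe⟩
  · rcases fix_pt_dp hx with rfl | h
    · exfalso
      rw [M.E_pt] at hxe
      exact hsp.1 (dp_injective (M.E_inj hsf hpf (mul_left_cancel (mul_right_cancel (hks.trans hxe)))))
    · exact h
  · refine adj_iff.2 ⟨fun e => hp.1 (dp_injective (M.E_inj (fix_self pt) hpf ?_)), ?_⟩
    · rw [M.E_pt]
      exact mul_left_cancel (mul_right_cancel (hkd.trans (by rw [e, hxe])))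
    · rw [← M.E_commute hff hx, hxe, ← hkd, Commute.conj_iff]
      exact (M.E_comm_d hpf).symm

/-- The images of seven points keep the diagram and the value of the word. -/
theorem transport_all (hM : ∀ x, hom x pt = pt → (IsConj d (M.E x) ↔ x ∈ classTr)) {k : G}
    {s : Fin table.N} (hs : Adj pt s) (hkd : k * d * k⁻¹ = M.E (dp fst0))
    (hks : k * M.E (dp s) * k⁻¹ = d) {P : ℕ → Fin table.N} (hP : ∀ j < 7, Adj pt (P j) ∧ Adj s (P j))
    (hPP : ∀ k < 7, ∀ j < k,
      if adj j k then hom (dp (P j)) (P k) ≠ P k else Adj (P j) (P k)) :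
    ∃ n : ℕ → Fin table.N, Pattern n ∧ (∀ j < 7, M.E (dp (n j)) = k * M.E (dp (P j)) * k⁻¹) ∧
      hom (W7 P) pt = pt ∧ hom (W7 n) pt = pt ∧ M.E (W7 n) = k * M.E (W7 P) * k⁻¹ := by
  classical
  have hex : ∀ j, ∃ q, j < 7 → InV q ∧ M.E (dp q) = k * M.E (dp (P j)) * k⁻¹ := fun j => by
    by_cases hj : j < 7
    · obtain ⟨q, hq⟩ := M.transport hM hs hkd hks (hP j hj).1 (hP j hj).2
      exact ⟨q, fun _ => hq⟩
    · exact ⟨pt, fun h => absurd h hj⟩
  choose n hn using hex
  have fP : ∀ j < 7, hom (dp (P j)) pt = pt := fun j hj => fix_dp_pt (hP j hj).1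
  have fn : ∀ j < 7, hom (dp (n j)) pt = pt := fun j hj => fix_dp_pt (hn j hj).1.1
  have hcomm : ∀ i j, i < 7 → j < 7 →
      (hom (dp (n i)) (n j) = n j ↔ hom (dp (P i)) (P j) = P j) := fun i j hi hj => by
    rw [← commute_dp_iff, ← commute_dp_iff, ← M.E_commute (fn i hi) (fn j hj), (hn i hi).2,
      (hn j hj).2, Commute.conj_iff, M.E_commute (fP i hi) (fP j hj)]
  refine ⟨n, ⟨fun j hj => (hn j hj).1, fun a ha b hb => ?_⟩, fun j hj => (hn j hj).2, ?_⟩
  · have := hPP a ha b hb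
    split_ifs with hadj
    · rw [if_pos hadj] at this
      exact fun e => this ((hcomm b a (by omega) ha).1 e)
    · rw [if_neg hadj] at this
      refine ⟨fun e => this.1 (dp_injective (M.E_inj (fP b (by omega)) (fP a ha) ?_)),
        (hcomm b a (by omega) ha).2 this.2⟩
      have := (hn b (by omega)).2
      rw [e, (hn a ha).2] at this
      exact (mul_left_cancel (mul_right_cancel this)).symm
  · have key : ∀ (m : ℕ → Fin table.N), (∀ j < 7, hom (dp (m j)) pt = pt) →
        hom (W7 m) pt = pt ∧ M.E (W7 m) = (M.E (dp (m 0)) * M.E (dp (m 1)) * M.E (dp (m 2)) *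
          M.E (dp (m 4)) * M.E (dp (m 6)) * M.E (dp (m 3)) * M.E (dp (m 5))) ^ 9 := by
      intro m hm
      have f0 := hm 0 (by norm_num)
      have f1 := fix_mul f0 (hm 1 (by norm_num))
      have f2 := fix_mul f1 (hm 2 (by norm_num))
      have f4 := fix_mul f2 (hm 4 (by norm_num))
      have f6 := fix_mul f4 (hm 6 (by norm_num))
      have f3 := fix_mul f6 (hm 3 (by norm_num))
      have f5 := fix_mul f3 (hm 5 (by norm_num))
      obtain ⟨hf, he⟩ := M.E_pow f5 9
      refine ⟨hf, he.trans ?_⟩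
      rw [M.E_mul f3 (hm 5 (by norm_num)), M.E_mul f6 (hm 3 (by norm_num)), M.E_mul f4 (hm 6 (by norm_num)),
        M.E_mul f2 (hm 4 (by norm_num)), M.E_mul f1 (hm 2 (by norm_num)), M.E_mul f0 (hm 1 (by norm_num))]
    obtain ⟨h1, e1⟩ := key P fP
    obtain ⟨h2, e2⟩ := key n fn
    refine ⟨h1, h2, ?_⟩
    rw [e1, e2, (hn 0 (by norm_num)).2, (hn 1 (by norm_num)).2, (hn 2 (by norm_num)).2,
      (hn 3 (by norm_num)).2, (hn 4 (by norm_num)).2, (hn 5 (by norm_num)).2, (hn 6 (by norm_num)).2]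
    simp only [conj_mul, conj_pow]

theorem el_replicate (w : List ℕ) (m : ℕ) : el (List.replicate m w).flatten = el w ^ m := by
  induction m with
  | zero => rw [List.replicate_zero, List.flatten_nil, el_nil, pow_zero]
  | succ m ih => rw [List.replicate_succ, List.flatten_cons, el_append, ih, pow_succ]

theorem W7_A : W7 (fun j => gpt (lettA.getD j 0)) = tr := by
  have h : el diagA = tr := eq_of_sameK (by decide) trWord_lt diagA_ok
  rw [← h, diagA, el_replicate,
    show [9, 8, 6, 5, 4, 3, 2] = [9] ++ ([8] ++ ([6] ++ ([5] ++ ([4] ++ ([3] ++ [2]))))) from rfl]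
  simp only [el_append]
  rw [el_gen (by norm_num), el_gen (by norm_num), el_gen (by norm_num), el_gen (by norm_num),
    el_gen (by norm_num), el_gen (by norm_num), el_gen (by norm_num)]
  rfl

theorem spare_spec : spareIx < halves.length ∧
    (∀ x ∈ [0, 1, 2, 5, 8, 9], hom (dp (gpt x)) (pp spareIx) = pp spareIx) ∧
    hom (dp (gpt 3)) (pp spareIx) ≠ pp spareIx ∧ Adj pt (pp spareIx) := by
  have h := spare_ok
  simp only [Bool.and_eq_true, List.all_eq_true, Bool.not_eq_true'] at h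
  obtain ⟨⟨⟨hlt, hfix⟩, h3⟩, hc⟩ := h
  have hlt' : spareIx < halves.length := Nat.le_of_ble_eq_true hlt
  refine ⟨hlt', fun x hx => ?_, fun e => ?_, (cls_one_iff _).1 ?_⟩
  · have hx' : x < 10 := by
      simp only [List.mem_cons, List.not_mem_nil, or_false] at hx
      omega
    rw [fix_gen_iff hx', pp_val hlt']
    exact Nat.eq_of_beq_eq_true (hfix x hx)
  · rw [fix_gen_iff (by norm_num), pp_val hlt'] at e
    rw [e, Nat.beq_refl] at h3
    exact Bool.noConfusion h3
  · rw [pp_val hlt']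
    exact Nat.eq_of_beq_eq_true hc

theorem W7_F : W7 ptsF = 1 := by
  have hlt : ∀ x ∈ hw spareIx, x < 10 := hw_lt spare_spec.1
  have h : el diagF = el [] := by
    refine eq_of_sameK (fun x hx => ?_) (by simp) diagF_ok
    obtain ⟨w, hw', hx⟩ := List.mem_flatten.1 hx
    obtain rfl := List.eq_of_mem_replicate hw'
    obtain ⟨w, hw', hx⟩ := List.mem_flatten.1 hx
    simp only [List.mem_cons, List.not_mem_nil, or_false] at hw'
    rcases hw' with rfl | rfl | rfl | rfl | rfl | rfl | rfl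
    any_goals (simp only [List.mem_cons, List.not_mem_nil, or_false] at hx; omega)
    exact hlt x hx
  rw [el_nil] at h
  rw [← h, diagF, el_replicate]
  simp only [List.flatten_cons, List.flatten_nil, List.append_nil, el_append]
  rw [el_gen (by norm_num), el_gen (by norm_num), el_gen (by norm_num), el_gen (by norm_num),
    el_gen (by norm_num), el_gen (by norm_num), ← dp_pp spare_spec.1]
  rfl

/-- The node exists. -/
theorem exists_node (hM : ∀ x, hom x pt = pt → (IsConj d (M.E x) ↔ x ∈ classTr)) (hd : d * d = 1) :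
    ∃ j : G, j * j = 1 ∧ (j * M.E (dp (gpt 6))) ^ 3 = 1 ∧ (M.E (dp (gpt 6)) * j) ^ 3 = 1 ∧
      ∀ x ∈ [0, 1, 2, 3, 4, 5, 8, 9], Commute j (M.E (dp (gpt x))) := by
  have hpr := pairs_ok
  simp only [Bool.and_eq_true] at hpr
  obtain ⟨⟨⟨⟨⟨hA0, hF0⟩, hAA⟩, hFF⟩, hsp⟩, -⟩ := hpr
  have hf0 := fix_dp_pt adj_pt_fst
  -- the first swap
  obtain ⟨g, hg⟩ := isConj_iff.1 ((hM _ hf0).2 (dp_mem fst0))
  obtain ⟨c, hc, hce⟩ := M.exists_E (g := g⁻¹ * d * g) (by
    have h := M.E_comm_d hf0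
    rw [← Commute.conj_iff g, hg, show g * (g⁻¹ * d * g) * g⁻¹ = d by group]
    exact h.symm)
  have hcC : c ∈ classTr := (hM c hc).1 (hce ▸ isConj_iff.2 ⟨g⁻¹, by group⟩)
  rw [class_eq] at hcC
  obtain ⟨r, rfl⟩ := hcC
  have hr : Adj pt r := by
    rcases fix_pt_dp hc with rfl | h
    · exfalso
      rw [M.E_pt] at hce
      have : M.E (dp fst0) = M.E (dp pt) := by
        rw [M.E_pt, ← hg]
        conv_lhs => rw [hce]
        group
      exact adj_pt_fst.1 (dp_injective (M.E_inj hf0 (fix_self pt) this)).symm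
    · exact h
  obtain ⟨m, hm, hmr⟩ := trans_one hr
  have hm' := fix_inv hm
  have hmd : M.E m⁻¹ * d * (M.E m⁻¹)⁻¹ = d := by
    rw [(M.E_comm_d hm').eq, mul_inv_cancel_right]
  set k := g * M.E m⁻¹ with hk
  have hkd : k * d * k⁻¹ = M.E (dp fst0) := by
    rw [hk, show g * M.E m⁻¹ * d * (g * M.E m⁻¹)⁻¹ = g * (M.E m⁻¹ * d * (M.E m⁻¹)⁻¹) * g⁻¹ by group,
      hmd, hg]
  have hka : k * M.E (dp fst0) * k⁻¹ = d := by
    rw [hk, show g * M.E m⁻¹ * M.E (dp fst0) * (g * M.E m⁻¹)⁻¹ =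
      g * (M.E m⁻¹ * M.E (dp fst0) * (M.E m⁻¹)⁻¹) * g⁻¹ by group, ← M.E_conj hm' hf0, conj_dp,
      show hom m⁻¹ fst0 = r by rw [map_inv, ← hmr, inv_app], hce]
    group
  -- the seven points and the witness
  have memA : ∀ j < 7, lettA.getD j 0 ∈ [0, 1, 2, 3, 4, 5, 6, 8, 9] ∧ lettA.getD j 0 < 10 ∧
      lettA.getD j 0 ∈ [2, 3, 4, 8, 5, 9, 6] := by decide
  have hP : ∀ j < 7, Adj pt (gpt (lettA.getD j 0)) ∧ Adj fst0 (gpt (lettA.getD j 0)) := by
    intro j hj
    obtain ⟨h1, h2, h3⟩ := memA j hj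
    have h := List.all_eq_true.1 hA0 _ h3
    rw [Bool.and_eq_true, Bool.not_eq_true'] at h
    exact ⟨adj_pt_gen h1, gpt_ne (by norm_num) h2 h.2, (link_iff (by norm_num) h2).1 h.1⟩
  have hPP : ∀ k < 7, ∀ j < k, if adj j k then
      hom (dp (gpt (lettA.getD j 0))) (gpt (lettA.getD k 0)) ≠ gpt (lettA.getD k 0)
      else Adj (gpt (lettA.getD j 0)) (gpt (lettA.getD k 0)) := by
    intro a ha b hb
    have h := List.all_eq_true.1 (List.all_eq_true.1 hAA a (List.mem_range.2 ha)) b (List.mem_range.2 hb)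
    have h1 := (memA b (by omega)).2.1
    have h2 := (memA a ha).2.1
    split_ifs with hadj
    · rw [hadj, cond_true, Bool.not_eq_true'] at h
      intro e
      rw [(link_iff h1 h2).2 e] at h
      exact Bool.noConfusion h
    · rw [Bool.not_eq_true] at hadj
      rw [hadj, cond_false, Bool.and_eq_true, Bool.not_eq_true'] at h
      exact ⟨gpt_ne h1 h2 h.2, (link_iff h1 h2).1 h.1⟩
  obtain ⟨n, hn, hne, hWP, hWn, hW⟩ :=
    M.transport_all hM adj_pt_fst hkd hka (P := fun j => gpt (lettA.getD j 0)) hP hPP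
  rw [W7_A, M.E_tr, hkd] at hW
  obtain ⟨u, hu, hufix, hu6, hu0⟩ := (good hn).1 (M.E_inj hWn hf0 hW)
  have huf := fix_dp_pt hu
  set j := k⁻¹ * M.E (dp u) * k with hj
  have hjk : k * j * k⁻¹ = M.E (dp u) := by rw [hj]; group
  have hjc : ∀ i < 7, (Commute j (M.E (dp (gpt (lettA.getD i 0)))) ↔ hom (dp (n i)) u = u) := by
    intro i hi
    rw [← Commute.conj_iff k, hjk, ← hne i hi, M.E_commute huf (fix_dp_pt (hn.1 i hi).1),
      commute_dp_iff, fix_symm]
  have hjd : ¬ Commute j d := by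
    rw [← Commute.conj_iff k, hjk, hkd, M.E_commute huf hf0, commute_dp_iff, fix_symm]
    exact hu0
  have hjD : IsConj d j := ((hM _ huf).2 (dp_mem u)).trans (isConj_iff.2 ⟨k⁻¹, by rw [hj]; group⟩)
  have hja : Commute j (M.E (dp fst0)) := by
    rw [← Commute.conj_iff k, hjk, hka]
    exact M.E_comm_d huf
  have hj5 : Commute j (M.E (dp (gpt 5))) := (hjc 4 (by norm_num)).2 (hufix 4 (by norm_num))
  -- the second swap
  obtain ⟨m5, hm5, hm5'⟩ := trans_one (adj_pt_gen (x := 5) (by simp))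
  set k2 := k * M.E m5 with hk2
  have hk2d : k2 * d * k2⁻¹ = M.E (dp fst0) := by
    rw [hk2, show k * M.E m5 * d * (k * M.E m5)⁻¹ = k * (M.E m5 * d * (M.E m5)⁻¹) * k⁻¹ by group,
      (M.E_comm_d hm5).eq, mul_inv_cancel_right, hkd]
  have hk2f : k2 * M.E (dp (gpt 5)) * k2⁻¹ = d := by
    rw [hk2, show k * M.E m5 * M.E (dp (gpt 5)) * (k * M.E m5)⁻¹ =
      k * (M.E m5 * M.E (dp (gpt 5)) * (M.E m5)⁻¹) * k⁻¹ by group,
      ← M.E_conj hm5 (fix_dp_pt (adj_pt_gen (x := 5) (by simp))), conj_dp, hm5', hka]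
  obtain ⟨hslt, hsfix, hs3, hsA⟩ := spare_spec
  have memF : ∀ j < 6, lettF.getD j 0 ∈ [0, 1, 2, 3, 4, 5, 6, 8, 9] ∧ lettF.getD j 0 < 10 ∧
      lettF.getD j 0 ∈ [3, 2, 8, 1, 9, 0] := by decide
  have hsne : ∀ x ∈ [0, 1, 2, 5, 8, 9], x < 10 → gpt x ≠ pp spareIx := by
    intro x hx hx' e
    have h := List.all_eq_true.1 hsp x hx
    rw [Bool.not_eq_true', ← gpt_val hx', ← pp_val hslt, e, Nat.beq_refl] at h
    exact Bool.noConfusion h
  have hQ : ∀ j < 7, Adj pt (ptsF j) ∧ Adj (gpt 5) (ptsF j) := by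
    intro i hi
    by_cases h0 : i = 0
    · subst h0
      exact ⟨hsA, hsne 5 (by simp) (by norm_num), hsfix 5 (by simp)⟩
    · rw [ptsF, if_neg h0]
      obtain ⟨h1, h2, h3⟩ := memF (i - 1) (by omega)
      have h := List.all_eq_true.1 hF0 _ h3
      rw [Bool.and_eq_true, Bool.not_eq_true'] at h
      exact ⟨adj_pt_gen h1, gpt_ne (by norm_num) h2 h.2, (link_iff (by norm_num) h2).1 h.1⟩
  have hQQ : ∀ k < 7, ∀ j < k,
      if adj j k then hom (dp (ptsF j)) (ptsF k) ≠ ptsF k else Adj (ptsF j) (ptsF k) := by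
    intro a ha b hb
    have ha0 : a ≠ 0 := by omega
    by_cases hb0 : b = 0
    · subst hb0
      rw [show ptsF 0 = pp spareIx from rfl, ptsF, if_neg ha0]
      by_cases ha1 : a = 1
      · subst ha1
        exact fun e => hs3 (fix_symm.1 e)
      · have hmem : ∀ i < 6, i ≠ 0 → lettF.getD i 0 ∈ [0, 1, 2, 5, 8, 9] ∧ adj 0 (i + 1) = false := by
          decide
        obtain ⟨h1, h2⟩ := hmem (a - 1) (by omega) (by omega)
        rw [show a - 1 + 1 = a by omega] at h2
        rw [if_neg (by rw [h2]; exact Bool.false_ne_true)]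
        exact ⟨(hsne _ h1 (memF (a - 1) (by omega)).2.1).symm, fix_symm.1 (hsfix _ h1)⟩
    · rw [ptsF, ptsF, if_neg ha0, if_neg hb0]
      have h := List.all_eq_true.1 (List.all_eq_true.1 hFF (a - 1) (List.mem_range.2 (by omega))) (b - 1)
        (List.mem_range.2 (by omega))
      rw [show b - 1 + 1 = b by omega, show a - 1 + 1 = a by omega] at h
      have h1 := (memF (b - 1) (by omega)).2.1
      have h2 := (memF (a - 1) (by omega)).2.1
      split_ifs with hadj
      · rw [hadj, cond_true, Bool.not_eq_true'] at h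
        intro e
        rw [(link_iff h1 h2).2 e] at h
        exact Bool.noConfusion h
      · rw [Bool.not_eq_true] at hadj
        rw [hadj, cond_false, Bool.and_eq_true, Bool.not_eq_true'] at h
        exact ⟨gpt_ne h1 h2 h.2, (link_iff h1 h2).1 h.1⟩
  obtain ⟨l, hl, hle, -, hWl, hW2⟩ :=
    M.transport_all hM (adj_pt_gen (x := 5) (by simp)) hk2d hk2f hQ hQQ
  rw [W7_F, M.E_one, mul_one, mul_inv_cancel] at hW2
  have hWl1 : W7 l = 1 := M.E_inj hWl (by simp) (hW2.trans M.E_one.symm)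
  obtain ⟨x, hx, hxe⟩ := M.exists_E (g := k2 * j * k2⁻¹) (by
    have h := (Commute.conj_iff k2).2 hj5
    rwa [hk2f] at h)
  have hxC : x ∈ classTr := (hM x hx).1 (hxe ▸ hjD.trans (isConj_iff.2 ⟨k2, rfl⟩))
  rw [class_eq] at hxC
  obtain ⟨v, rfl⟩ := hxC
  have hv : Adj pt v := by
    rcases fix_pt_dp hx with rfl | h
    · exfalso
      rw [M.E_pt] at hxe
      exact hjd (mul_left_cancel (mul_right_cancel (hk2f.trans hxe)) ▸
        M.E_comm_d (fix_dp_pt (adj_pt_gen (x := 5) (by simp))))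
    · exact h
  have hvc : ∀ i < 7, (Commute j (M.E (dp (ptsF i))) ↔ hom (dp (l i)) v = v) := by
    intro i hi
    rw [← Commute.conj_iff k2, ← hxe, ← hle i hi, M.E_commute hx (fix_dp_pt (hl.1 i hi).1),
      commute_dp_iff, fix_symm]
  have hv0 : hom (dp fst0) v ≠ v := by
    rw [ne_eq, fix_symm, ← commute_dp_iff, ← M.E_commute hx hf0, hxe, ← hk2d, Commute.conj_iff]
    exact hjd
  have hjA : ∀ i < 6, Commute j (M.E (dp (gpt (lettA.getD i 0)))) := fun i hi =>
    (hjc i (by omega)).2 (hufix i hi)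
  have hb : Commute j (M.E (dp (gpt 1))) :=
    (hvc 4 (by norm_num)).2 ((good hl).2 hWl1 v hv hv0 ((hvc 6 (by norm_num)).1 hja)
      ((hvc 2 (by norm_num)).1 (hjA 0 (by norm_num))) ((hvc 1 (by norm_num)).1 (hjA 1 (by norm_num)))
      ((hvc 3 (by norm_num)).1 (hjA 3 (by norm_num))) ((hvc 5 (by norm_num)).1 (hjA 5 (by norm_num))))
  have hj2 : j * j = 1 := by
    obtain ⟨y, hy⟩ := isConj_iff.1 hjD
    rw [← hy, show y * d * y⁻¹ * (y * d * y⁻¹) = y * (d * d) * y⁻¹ by group, hd]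
    group
  have h3 : ∀ a b : Fin table.N, hom (dp a) pt = pt → hom (dp b) pt = pt → ¬ Commute (dp a) (dp b) →
      (M.E (dp a) * M.E (dp b)) ^ 3 = 1 := by
    intro a b ha hb hab
    rw [← M.E_mul ha hb, ← (M.E_pow (fix_mul ha hb) 3).2, (dp_three a b).resolve_left hab, M.E_one]
  have h6 : ¬ Commute (dp u) (dp (n 6)) := fun e => hu6 ((commute_dp_iff _ _).1 e.symm)
  have hn6 := fix_dp_pt (hn.1 6 (by norm_num)).1
  have e6 : k⁻¹ * M.E (dp (n 6)) * k = M.E (dp (gpt 6)) := by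
    rw [hne 6 (by norm_num)]
    show k⁻¹ * (k * M.E (dp (gpt 6)) * k⁻¹) * k = _
    group
  refine ⟨j, hj2, ?_, ?_, fun x hx => ?_⟩
  · rw [← e6, hj, show k⁻¹ * M.E (dp u) * k * (k⁻¹ * M.E (dp (n 6)) * k) =
      k⁻¹ * (M.E (dp u) * M.E (dp (n 6))) * k⁻¹⁻¹ by group, conj_pow, h3 _ _ huf hn6 h6]
    group
  · rw [← e6, hj, show k⁻¹ * M.E (dp (n 6)) * k * (k⁻¹ * M.E (dp u) * k) =
      k⁻¹ * (M.E (dp (n 6)) * M.E (dp u)) * k⁻¹⁻¹ by group, conj_pow,
      h3 _ _ hn6 huf fun e => h6 e.symm]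
    group
  · simp only [List.mem_cons, List.not_mem_nil, or_false] at hx
    rcases hx with rfl | rfl | rfl | rfl | rfl | rfl | rfl | rfl
    exacts [hja, hb, hjA 0 (by norm_num), hjA 1 (by norm_num), hjA 2 (by norm_num), hjA 4 (by norm_num),
      hjA 3 (by norm_num), hjA 5 (by norm_num)]

end Emb

end CfsgLib.Sporadic.Fi23Centralizer
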