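import Cfsg.Agent.Lib.Sporadic.Fi23Centralizer.Points
import Cfsg.Agent.Lib.Sporadic.Fi23Centralizer.CheckNodes
import Cfsg.Agent.Lib.Sporadic.Fi23Centralizer.CheckLeaves

/-!
Orbits of tuples of transpositions near the base one, and the values of the word of length seven.
-/

set_option autoImplicit false
set_option maxRecDepth 100000

open Cfsg.Spor

namespace CfsgLib.Sporadic.Fi23Centralizer

open CosetCert CosetCert.Fi23P
open Fi23Data (table forestH)
open Two (el el_img el_append el_nil el_single dp conj_dp gpt gpt_val gen_eq_dp genPts eq_of_sameK)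
open OutFi (dp_injective dp_sq)

attribute [local irreducible] PTab.img Forest.cls

/-- The standard third point. -/
noncomputable def c0 : Fin table.N := pp secondIx

/-- The standard fourth point. -/
noncomputable def u0 : Fin table.N := pp thirdIx

theorem first_spec : firstIx < halves.length ∧ pp firstIx = fst0 := by
  have h := std_ok
  simp only [stdK, Bool.and_eq_true] at h
  have hlt : firstIx < halves.length := Nat.le_of_ble_eq_true h.1.1.1.1.1.1.1.1.1.1.2
  refine ⟨hlt, Fin.ext ?_⟩
  rw [pp_val hlt, Nat.eq_of_beq_eq_true h.1.1.1.1.1.1.1.1.1.2, fst0, gpt_val (by norm_num)]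

theorem base_spec : baseIx < halves.length ∧ pp baseIx = pt := by
  have h := std_ok
  simp only [stdK, Bool.and_eq_true] at h
  have hlt : baseIx < halves.length := Nat.le_of_ble_eq_true h.1.1.1.1.1.1.1.1.1.1.1.1
  refine ⟨hlt, Fin.ext ?_⟩
  rw [pp_val hlt, Nat.eq_of_beq_eq_true h.1.1.1.1.1.1.1.1.1.1.1.2]
  rfl

theorem node_roots :
    ((nodes.getD 0 nodeU).pre = [] ∧ (nodes.getD 0 nodeU).roots = [secondIx]) ∧
      (nodeU.pre = [secondIx] ∧ nodeU.roots = [thirdIx]) := by
  have h := std_ok
  simp only [stdK, Bool.and_eq_true, decide_eq_true_eq] at h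
  exact ⟨⟨h.1.1.1.1.1.1.1.1.2, h.1.1.1.1.1.1.1.2⟩, h.1.1.1.1.1.1.2, h.1.1.1.1.1.2⟩

/-- A generator fixes the base point, the first generator and the settled points. -/
theorem gen_spec {cand : List ℕ → ℕ → Bool} {M : Node} (hM : nodeK cand M = true) {i : ℕ}
    (hi : i < M.gens.length) :
    (∀ x ∈ M.gens.getD i [], x < 10) ∧ hom (el (M.gens.getD i [])) pt = pt ∧
      hom (el (M.gens.getD i [])) fst0 = fst0 ∧
      ∀ k ∈ M.pre, hom (el (M.gens.getD i [])) (pp k) = pp k := by
  simp only [nodeK, Bool.and_eq_true] at hM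
  obtain ⟨⟨⟨⟨hpre, -⟩, hgen⟩, -⟩, -⟩ := hM
  have h := List.all_eq_true.1 hgen (M.gens.getD i []) (by
    rw [List.getD_eq_getElem _ _ hi]; exact List.getElem_mem hi)
  simp only [Bool.and_eq_true] at h
  obtain ⟨⟨⟨hlt, h0⟩, h1⟩, h2⟩ := h
  have hlt' : ∀ x ∈ M.gens.getD i [], x < 10 := fun x hx =>
    Nat.le_of_ble_eq_true (List.all_eq_true.1 hlt x hx)
  refine ⟨hlt', Fin.ext ?_, Fin.ext ?_, fun k hk => Fin.ext ?_⟩
  · rw [el_img hlt']; exact Nat.eq_of_beq_eq_true h0
  · rw [el_img hlt', ← first_spec.2, pp_val first_spec.1]; exact Nat.eq_of_beq_eq_true h1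
  · have hk' : k < halves.length := Nat.le_of_ble_eq_true (List.all_eq_true.1 hpre k hk)
    rw [el_img hlt', pp_val hk']
    exact Nat.eq_of_beq_eq_true (List.all_eq_true.1 h2 k hk)

/-- A candidate of a node is carried to a root. -/
theorem node_step {cand : List ℕ → ℕ → Bool} {M : Node} (hM : nodeK cand M = true) {u : Fin table.N}
    (hu : InV u) (hc : cand M.pre u = true) :
    ∃ g : Fi23, hom g pt = pt ∧ hom g fst0 = fst0 ∧ (∀ k ∈ M.pre, hom g (pp k) = pp k) ∧
      ∃ r ∈ M.roots, r < halves.length ∧ hom g u = pp r := by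
  have hM' := hM
  simp only [nodeK, Bool.and_eq_true] at hM'
  obtain ⟨⟨⟨⟨-, hroots⟩, -⟩, hsteps⟩, hall⟩ := hM'
  let Q : ℕ → Prop := fun v => ∃ g : Fi23, hom g pt = pt ∧ hom g fst0 = fst0 ∧
    (∀ k ∈ M.pre, hom g (pp k) = pp k) ∧ ∃ r ∈ M.roots, r < halves.length ∧
    ((hom g (pp r) : Fin table.N) : ℕ) = v
  have hbase : ∀ v, Nat.testBit (maskOf (M.roots.map hp)) v = true → Q v := by
    intro v hv
    obtain ⟨r, hr, rfl⟩ := List.mem_map.1 (testBit_maskOf _ _ hv)
    have hr' : r < halves.length := Nat.le_of_ble_eq_true (List.all_eq_true.1 hroots r hr)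
    exact ⟨1, by simp, by simp, by simp, r, hr, hr', by simp [pp_val hr']⟩
  have hstep : ∀ i < M.gens.length, ∀ v, Q v → Q (table.imgW (M.gens.getD i []) v) := by
    rintro i hi v ⟨g, h1, h2, h3, r, hr, hr', h4⟩
    obtain ⟨hlt, hg1, hg2, hg3⟩ := gen_spec hM hi
    refine ⟨el (M.gens.getD i []) * g, ?_, ?_, fun k hk => ?_, r, hr, hr', ?_⟩
    · rw [map_mul, Equiv.Perm.mul_apply, h1, hg1]
    · rw [map_mul, Equiv.Perm.mul_apply, h2, hg2]
    · rw [map_mul, Equiv.Perm.mul_apply, h3 k hk, hg3 k hk]
    · rw [map_mul, Equiv.Perm.mul_apply, el_img hlt, h4]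
  have hmem := List.all_eq_true.1 hall (u : ℕ) (testBit_maskOf _ _ (mask_of_inV hu))
  rw [hc, Bool.not_true, Bool.false_or] at hmem
  have hQ : Q (u : ℕ) := by
    rcases List.mem_append.1 (testBit_maskOf _ _ hmem) with h | h
    · obtain ⟨r, hr, he⟩ := List.mem_map.1 h
      have hr' : r < halves.length := Nat.le_of_ble_eq_true (List.all_eq_true.1 hroots r hr)
      exact ⟨1, by simp, by simp, by simp, r, hr, hr', by simp [pp_val hr', he]⟩
    · obtain ⟨s, hs, he⟩ := List.mem_map.1 h
      exact he ▸ stepsK_spec Q hstep M.steps _ hbase hsteps s hs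
  obtain ⟨g, h1, h2, h3, r, hr, hr', h4⟩ := hQ
  have inv : ∀ {p q : Fin table.N}, hom g p = q → hom g⁻¹ q = p := fun e => by
    rw [map_inv, ← e, inv_app]
  exact ⟨g⁻¹, inv h1, inv h2, fun k hk => inv (h3 k hk), r, hr, hr', inv (Fin.ext h4)⟩

theorem cls_fst : forestH.cls (fst0 : ℕ) = 1 := by
  rw [fst0_val]
  decide +kernel

theorem adj_pt_fst : Adj pt fst0 := (cls_one_iff fst0).1 cls_fst

/-- The neighbours of the base point are conjugate under its stabiliser. -/
theorem trans_one {u : Fin table.N} (h : Adj pt u) : ∃ g : Fi23, hom g pt = pt ∧ hom g u = fst0 := by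
  have h1 : fst0 ∈ MulAction.orbit ((sub lH).map hom) u := by
    rw [orbit_H u ((cls_one_iff u).2 h), Finset.mem_coe, Forest.mem_classSet]
    exact cls_fst
  obtain ⟨⟨π, hπ⟩, hπu⟩ := h1
  obtain ⟨g, hg, rfl⟩ := hπ
  exact ⟨g, hom_fix g hg, hπu⟩

theorem trans_two {u : Fin table.N} (h : InV u) :
    ∃ g : Fi23, hom g pt = pt ∧ hom g fst0 = fst0 ∧ hom g u = c0 := by
  obtain ⟨⟨hpre, hroots⟩, -⟩ := node_roots
  have hmem : nodes.getD 0 nodeU ∈ nodes := by
    have : 0 < nodes.length := by simp [nodes]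
    rw [List.getD_eq_getElem _ _ this]
    exact List.getElem_mem this
  obtain ⟨g, h1, h2, -, r, hr, -, h4⟩ := node_step (List.all_eq_true.1 node_ok _ hmem) h
    (show candK _ _ = true by rw [hpre]; rfl)
  rw [hroots, List.mem_singleton] at hr
  exact ⟨g, h1, h2, by rw [h4, hr]; rfl⟩

theorem second_lt : secondIx < halves.length := by decide +kernel

theorem third_lt : thirdIx < halves.length := by decide +kernel

theorem inV_c0 : InV c0 := by
  have h := std_ok
  simp only [stdK, Bool.and_eq_true] at h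
  exact inV_of_mask (by rw [c0, pp_val second_lt]; exact h.1.1.1.1.2)

theorem inV_u0 : InV u0 := by
  have h := std_ok
  simp only [stdK, Bool.and_eq_true] at h
  exact inV_of_mask (by rw [u0, pp_val third_lt]; exact h.1.1.1.2)

theorem c0_u0_checks :
    (fixesK secondIx thirdIx && !(Nat.beq (hp secondIx) (hp thirdIx))) = true := by decide +kernel

theorem adj_c0_u0 : Adj c0 u0 := by
  have h := c0_u0_checks
  rw [Bool.and_eq_true, Bool.not_eq_true'] at h
  refine ⟨fun e => ?_, (fixesK_iff second_lt third_lt).1 h.1⟩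
  have := congrArg Fin.val e
  rw [c0, u0, pp_val second_lt, pp_val third_lt] at this
  rw [this, Nat.beq_refl] at h
  exact Bool.noConfusion h.2

theorem trans_three {u : Fin table.N} (h : InV u) (hc : Adj c0 u) :
    ∃ g : Fi23, hom g pt = pt ∧ hom g fst0 = fst0 ∧ hom g c0 = c0 ∧ hom g u = u0 := by
  obtain ⟨-, hpre, hroots⟩ := node_roots
  obtain ⟨g, h1, h2, h3, r, hr, -, h4⟩ := node_step nodeU_ok h (show triCandK _ _ = true by
    rw [hpre]
    refine List.all_eq_true.2 fun j hj => ?_
    rw [List.mem_singleton] at hj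
    subst hj
    rw [Bool.and_eq_true, Bool.not_eq_true']
    refine ⟨Nat.beq_eq.mpr ((fix_pp_iff second_lt u).1 hc.2), ?_⟩
    by_contra hb
    rw [Bool.not_eq_false] at hb
    exact hc.1 (Fin.ext (by rw [c0, pp_val second_lt]; exact Nat.eq_of_beq_eq_true hb)))
  rw [hroots, List.mem_singleton] at hr
  exact ⟨g, h1, h2, h3 _ (by rw [hpre]; exact List.mem_singleton_self _), by rw [h4, hr]; rfl⟩

/-- Commuting pairs are conjugate. -/
theorem trans_pair {p q : Fin table.N} (h : Adj p q) :
    ∃ g : Fi23, hom g p = pt ∧ hom g q = fst0 := by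
  obtain ⟨a, ha⟩ := transitive p
  have ha' : hom a⁻¹ p = pt := by rw [map_inv, ← ha, inv_app]
  obtain ⟨b, hb, hb'⟩ := trans_one (u := hom a⁻¹ q) (ha' ▸ (adj_conj _).2 h)
  exact ⟨b * a⁻¹, by rw [map_mul, Equiv.Perm.mul_apply, ha', hb], by
    rw [map_mul, Equiv.Perm.mul_apply, hb']⟩

/-- Commuting triples are conjugate. -/
theorem trans_triple {p q r : Fin table.N} (h : Adj p q) (h' : Adj p r) (h'' : Adj q r) :
    ∃ g : Fi23, hom g p = pt ∧ hom g q = fst0 ∧ hom g r = c0 := by
  obtain ⟨a, ha, ha'⟩ := trans_pair h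
  obtain ⟨b, hb, hb', hb''⟩ := trans_two (u := hom a r)
    ⟨ha ▸ (adj_conj _).2 h', ha' ▸ (adj_conj _).2 h''⟩
  exact ⟨b * a, by rw [map_mul, Equiv.Perm.mul_apply, ha, hb], by
    rw [map_mul, Equiv.Perm.mul_apply, ha', hb'], by rw [map_mul, Equiv.Perm.mul_apply, hb'']⟩

/-- Commuting quadruples are conjugate. -/
theorem trans_quad {p q r s : Fin table.N} (h : Adj p q) (h' : Adj p r) (h'' : Adj q r)
    (k : Adj p s) (k' : Adj q s) (k'' : Adj r s) :
    ∃ g : Fi23, hom g p = pt ∧ hom g q = fst0 ∧ hom g r = c0 ∧ hom g s = u0 := by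
  obtain ⟨a, ha, ha', ha''⟩ := trans_triple h h' h''
  obtain ⟨b, hb, hb', hb'', hb'''⟩ := trans_three (u := hom a s)
    ⟨ha ▸ (adj_conj _).2 k, ha' ▸ (adj_conj _).2 k'⟩ (ha'' ▸ (adj_conj _).2 k'')
  exact ⟨b * a, by rw [map_mul, Equiv.Perm.mul_apply, ha, hb], by
    rw [map_mul, Equiv.Perm.mul_apply, ha', hb'], by rw [map_mul, Equiv.Perm.mul_apply, ha'', hb''],
    by rw [map_mul, Equiv.Perm.mul_apply, hb''']⟩

/-- Seven neighbours of the base pair with the diagram on the places c, d, e, h, f, i, g. -/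
def Pattern (n : ℕ → Fin table.N) : Prop :=
  (∀ j < 7, InV (n j)) ∧ ∀ k < 7, ∀ j < k,
    if adj j k then hom (dp (n j)) (n k) ≠ n k else Adj (n j) (n k)

/-- The word of the seven places. -/
noncomputable def W7 (n : ℕ → Fin table.N) : Fi23 :=
  (dp (n 0) * dp (n 1) * dp (n 2) * dp (n 4) * dp (n 6) * dp (n 3) * dp (n 5)) ^ 9

/-- What is wanted from the value of the word. -/
def Good (n : ℕ → Fin table.N) : Prop :=
  (W7 n = dp fst0 → ∃ u, Adj pt u ∧ (∀ j < 6, hom (dp (n j)) u = u) ∧
      hom (dp (n 6)) u ≠ u ∧ hom (dp fst0) u ≠ u) ∧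
    (W7 n = 1 → ∀ u, Adj pt u → hom (dp fst0) u ≠ u → hom (dp (n 6)) u = u →
      hom (dp (n 2)) u = u → hom (dp (n 1)) u = u → hom (dp (n 3)) u = u → hom (dp (n 5)) u = u →
      hom (dp (n 4)) u = u)

theorem W7_conj (g : Fi23) (n : ℕ → Fin table.N) :
    W7 (fun j => hom g (n j)) = g * W7 n * g⁻¹ := by
  simp only [W7, ← conj_dp, conj_mul]
  rw [conj_pow]

theorem Pattern.conj {n : ℕ → Fin table.N} (h : Pattern n) {g : Fi23} (h0 : hom g pt = pt)
    (h1 : hom g fst0 = fst0) : Pattern fun j => hom g (n j) := by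
  refine ⟨fun j hj => ⟨?_, ?_⟩, fun k hk j hj => ?_⟩
  · have := (adj_conj g).2 (h.1 j hj).1
    rwa [h0] at this
  · have := (adj_conj g).2 (h.1 j hj).2
    rwa [h1] at this
  · have := h.2 k hk j hj
    split_ifs with ha
    · rw [if_pos ha] at this
      exact fun e => this ((fix_conj g _ _).1 e)
    · rw [if_neg ha] at this
      exact (adj_conj g).2 this

theorem good_conj {n : ℕ → Fin table.N} {g : Fi23} (h0 : hom g pt = pt) (h1 : hom g fst0 = fst0)
    (h : Good fun j => hom g (n j)) : Good n := by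
  have cancel : ∀ p : Fin table.N, hom g (hom g⁻¹ p) = p := fun p => by
    rw [map_inv, app_inv]
  have e1 : g * dp fst0 * g⁻¹ = dp fst0 := by rw [conj_dp, h1]
  refine ⟨fun hw => ?_, fun hw u a b c d e f i => ?_⟩
  · obtain ⟨u, a, b, c, d⟩ := h.1 (by rw [W7_conj, hw, e1])
    refine ⟨hom g⁻¹ u, (adj_conj g).1 (by rwa [h0, cancel]), fun j hj => ?_, fun e => c ?_,
      fun e => d ?_⟩
    · exact (fix_conj g _ _).1 (by rw [cancel]; exact b j hj)
    · simpa [cancel] using (fix_conj g _ _).2 e
    · simpa [h1, cancel] using (fix_conj g _ _).2 e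
  · refine (fix_conj g _ _).1 (h.2 (by rw [W7_conj, hw, mul_one, mul_inv_cancel]) (hom g u)
      ?_ ?_ ((fix_conj g _ _).2 c) ((fix_conj g _ _).2 d) ((fix_conj g _ _).2 e)
      ((fix_conj g _ _).2 f) ((fix_conj g _ _).2 i))
    · have := (adj_conj g).2 a
      rwa [h0] at this
    · intro hb
      refine b ((fix_conj g _ _).1 ?_)
      rwa [h1]

theorem cand_of_pattern {pre : List ℕ} {n : ℕ → Fin table.N} (hn : Pattern n)
    (hlt : ∀ i ∈ pre, i < halves.length) (hlen : pre.length < 7)
    (he : ∀ j < pre.length, n j = pp (pre.getD j 0)) : candK pre (n pre.length) = true := by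
  refine List.all_eq_true.2 fun j hj => ?_
  rw [List.mem_range] at hj
  have hi : pre.getD j 0 < halves.length := by
    rw [List.getD_eq_getElem _ _ hj]; exact hlt _ (List.getElem_mem hj)
  have := hn.2 _ hlen j hj
  rw [he j hj] at this
  by_cases ha : adj j pre.length = true
  · rw [if_pos ha] at this
    rw [ha, cond_true, Bool.not_eq_true', ← Bool.not_eq_true]
    exact fun h => this ((fix_pp_iff hi _).2 (Nat.eq_of_beq_eq_true h))
  · rw [if_neg ha] at this
    rw [Bool.not_eq_true] at ha
    rw [ha, cond_false, Bool.and_eq_true, Bool.not_eq_true', ← Bool.not_eq_true]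
    refine ⟨Nat.beq_eq.mpr ((fix_pp_iff hi _).1 this.2), fun h => this.1 (Fin.ext ?_)⟩
    rw [pp_val hi]
    exact Nat.eq_of_beq_eq_true h

theorem leaf_good {l : Leaf} (hl : l ∈ leaves) {n : ℕ → Fin table.N}
    (hlt : ∀ j < 7, l.tup.getD j 0 < halves.length) (he : ∀ j < 7, n j = pp (l.tup.getD j 0)) :
    Good n := by
  have hK := List.all_eq_true.1 leaf_ok l hl
  simp only [leafK, Bool.and_eq_true] at hK
  obtain ⟨⟨⟨⟨-, hP⟩, hP1⟩, hfirst⟩, hone⟩ := hK
  have hP' : l.ptFirst < table.N := Nat.le_of_ble_eq_true hP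
  have hP1' : l.ptOne < table.N := Nat.le_of_ble_eq_true hP1
  have hwlt : ∀ x ∈ leafWord l.tup, x < 10 := by
    intro x hx
    obtain ⟨w, hw, hx⟩ := List.mem_flatten.1 hx
    obtain rfl := List.eq_of_mem_replicate hw
    obtain ⟨j, hj, hx⟩ := List.mem_flatMap.1 hx
    refine hw_lt (hlt j ?_) x hx
    simp only [List.mem_cons, List.not_mem_nil, or_false] at hj
    omega
  have hW : el (leafWord l.tup) = W7 n := by
    have hpow : ∀ (w : List ℕ) (m : ℕ), el (List.replicate m w).flatten = el w ^ m := by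
      intro w m
      induction m with
      | zero => rw [List.replicate_zero, List.flatten_nil, el_nil, pow_zero]
      | succ m ih => rw [List.replicate_succ, List.flatten_cons, el_append, ih, pow_succ]
    rw [leafWord, hpow, W7]
    congr 1
    rw [show ([5, 3, 6, 4, 2, 1, 0].flatMap fun j => hw (l.tup.getD j 0)) =
      ([5, 3, 6, 4, 2, 1, 0].map fun j => l.tup.getD j 0).flatMap hw by rw [List.flatMap_map],
      el_flatMap (fun i hi => by
        obtain ⟨j, hj, rfl⟩ := List.mem_map.1 hi
        refine hlt j ?_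
        simp only [List.mem_cons, List.not_mem_nil, or_false] at hj
        omega)]
    rw [he 0 (by norm_num), he 1 (by norm_num), he 2 (by norm_num), he 3 (by norm_num),
      he 4 (by norm_num), he 5 (by norm_num), he 6 (by norm_num)]
    simp [mul_assoc]
  refine ⟨fun hval => ?_, fun hval u a b c d e f i => ?_⟩
  · cases hnf : l.notFirst with
    | true =>
      rw [hnf, cond_true, Bool.not_eq_true', ← Bool.not_eq_true] at hfirst
      refine absurd (Nat.beq_eq.mpr ?_) hfirst
      have e1 := el_img hwlt ⟨l.ptFirst, hP'⟩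
      rw [hW, hval] at e1
      exact e1.symm.trans (img_gen (x := 0) (by norm_num) _)
    | false =>
      simp only [hnf, cond_false, Bool.and_eq_true, List.all_eq_true, Bool.not_eq_true'] at hfirst
      obtain ⟨⟨⟨⟨hwit, hcls⟩, hfix⟩, h6⟩, h0⟩ := hfirst
      have hwit' : l.wit < halves.length := Nat.le_of_ble_eq_true hwit
      refine ⟨pp l.wit, (cls_one_iff _).1 (by rw [pp_val hwit']; exact Nat.eq_of_beq_eq_true hcls),
        fun j hj => ?_, ?_, ?_⟩
      · rw [he j (by omega)]
        exact (fixesK_iff (hlt j (by omega)) hwit').1 (hfix j (by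
          simp only [List.mem_cons, List.not_mem_nil, or_false]; omega))
      · rw [he 6 (by norm_num), ne_eq, ← fixesK_iff (hlt 6 (by norm_num)) hwit', h6]
        exact Bool.false_ne_true
      · rw [← first_spec.2, ne_eq, ← fixesK_iff first_spec.1 hwit', h0]
        exact Bool.false_ne_true
  · cases hno : l.notOne with
    | true =>
      simp only [hno, Bool.not_true, Bool.false_or, Bool.not_eq_true'] at hone
      have e1 := el_img hwlt ⟨l.ptOne, hP1'⟩
      rw [hW, hval, map_one] at e1
      rw [show table.imgW (leafWord l.tup) l.ptOne = l.ptOne from e1.symm, Nat.beq_refl] at hone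
      exact Bool.noConfusion hone
    | false =>
      have key : ∀ s m, lastK l s m = true → s ≤ (u : ℕ) → (u : ℕ) < s + m →
          hom (dp (n 4)) u = u := by
        intro s m hK hs hm
        simp only [lastK, hno, Bool.false_or, List.all_eq_true] at hK
        have h := hK ((u : ℕ) - s) (List.mem_range.2 (by omega))
        rw [show Nat.add s ((u : ℕ) - s) = (u : ℕ) from Nat.add_sub_cancel' hs] at h
        rw [he 6 (by norm_num), fix_pp_iff (hlt 6 (by norm_num))] at c
        have h0 : table.img 0 u ≠ u := fun e => b ((fix_gen_iff (x := 0) (by norm_num) u).2 e)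
        have hall : ([2, 1, 3, 5].all fun j =>
            Nat.beq (table.imgW (hw (l.tup.getD j 0)) u) u) = true := by
          rw [he 2 (by norm_num), fix_pp_iff (hlt 2 (by norm_num))] at d
          rw [he 1 (by norm_num), fix_pp_iff (hlt 1 (by norm_num))] at e
          rw [he 3 (by norm_num), fix_pp_iff (hlt 3 (by norm_num))] at f
          rw [he 5 (by norm_num), fix_pp_iff (hlt 5 (by norm_num))] at i
          simp only [List.all_cons, List.all_nil, d, e, f, i, Nat.beq_refl, Bool.and_true]
        rw [c, hall, (cls_one_iff u).2 a, Nat.beq_refl] at h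
        simp only [Bool.not_true, Bool.false_or, Bool.or_false, Bool.or_eq_true, Nat.beq_refl] at h
        rw [he 4 (by norm_num), fix_pp_iff (hlt 4 (by norm_num))]
        exact Nat.eq_of_beq_eq_true (h.resolve_left fun e => h0 (Nat.eq_of_beq_eq_true e))
      have hN : table.N = 31671 := rfl
      rcases lt_or_ge (u : ℕ) 16000 with hu | hu
      · exact key 0 16000 (List.all_eq_true.1 last0_ok l hl) (Nat.zero_le _) (by omega)
      · exact key 16000 15671 (List.all_eq_true.1 last1_ok l hl) hu (by have := u.2; omega)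

theorem node_len : nodes.all (fun M => Nat.blt M.pre.length 7) = true := by decide +kernel

theorem getD_snoc (L : List ℕ) (r j : ℕ) (hj : j ≤ L.length) :
    (L ++ [r]).getD j 0 = if j < L.length then L.getD j 0 else r := by
  split_ifs with h
  · rw [List.getD_append _ _ _ _ h]
  · obtain rfl : j = L.length := by omega
    simp

theorem good_of_node : ∀ k : ℕ, ∀ M ∈ nodes, M.pre.length + k = 7 → ∀ n : ℕ → Fin table.N,
    Pattern n → (∀ j < M.pre.length, n j = pp (M.pre.getD j 0)) → Good n := by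
  intro k
  induction k with
  | zero =>
    intro M hM hlen
    have := Nat.le_of_ble_eq_true (List.all_eq_true.1 node_len M hM)
    omega
  | succ k ih =>
    intro M hM hlen n hn he
    have hK := List.all_eq_true.1 node_ok M hM
    have hpre : ∀ i ∈ M.pre, i < halves.length := by
      have := hK
      simp only [nodeK, Bool.and_eq_true] at this
      exact fun i hi => Nat.le_of_ble_eq_true (List.all_eq_true.1 this.1.1.1.1 i hi)
    have hlt7 : M.pre.length < 7 := by omega
    obtain ⟨g, h0, h1, h2, r, hr, hr', h3⟩ :=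
      node_step hK (hn.1 _ hlt7) (cand_of_pattern hn hpre hlt7 he)
    refine good_conj h0 h1 ?_
    have he' : ∀ j ≤ M.pre.length, hom g (n j) = pp ((M.pre ++ [r]).getD j 0) := by
      intro j hj
      rw [getD_snoc _ _ _ hj]
      split_ifs with h
      · rw [he j h]
        exact h2 _ (by rw [List.getD_eq_getElem _ _ h]; exact List.getElem_mem h)
      · rw [show j = M.pre.length by omega, h3]
    have hlink := List.all_eq_true.1 (List.all_eq_true.1 link_ok M hM) r hr
    by_cases h6 : M.pre.length < 6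
    · rw [show Nat.blt M.pre.length 6 = true from Nat.blt_eq.mpr h6, cond_true, List.any_eq_true]
        at hlink
      obtain ⟨M', hM', hpre'⟩ := hlink
      rw [decide_eq_true_eq] at hpre'
      refine ih M' hM' (by rw [hpre', List.length_append, List.length_singleton]; omega) _
        (hn.conj h0 h1) fun j hj => ?_
      rw [hpre', List.length_append, List.length_singleton] at hj
      rw [hpre']
      exact he' j (by omega)
    · rw [show Nat.blt M.pre.length 6 = false from (Bool.not_eq_true _).mp fun h => h6 (Nat.blt_eq.mp h),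
        cond_false, Bool.and_eq_true, List.any_eq_true] at hlink
      obtain ⟨h6', l, hl, htup⟩ := hlink
      rw [decide_eq_true_eq] at htup
      have h6e := Nat.eq_of_beq_eq_true h6'
      refine leaf_good hl (fun j hj => ?_) fun j hj => by rw [htup]; exact he' j (by omega)
      rw [htup, getD_snoc _ _ _ (by omega)]
      split_ifs with h
      · exact hpre _ (by rw [List.getD_eq_getElem _ _ h]; exact List.getElem_mem h)
      · exact hr'

/-- Every tuple with the pattern has the wanted property. -/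
theorem good {n : ℕ → Fin table.N} (hn : Pattern n) : Good n := by
  obtain ⟨⟨hpre, -⟩, -⟩ := node_roots
  have hmem : nodes.getD 0 nodeU ∈ nodes := by
    have : 0 < nodes.length := by simp [nodes]
    rw [List.getD_eq_getElem _ _ this]
    exact List.getElem_mem this
  refine good_of_node 7 _ hmem (by rw [hpre]; rfl) n hn fun j hj => ?_
  rw [hpre] at hj
  exact absurd hj (Nat.not_lt_zero _)

end CfsgLib.Sporadic.Fi23Centralizer
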